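import Cfsg.Agent.M12Ord86.Proj
import Cfsg.Agent.Lib.SmallGroups.SelfCent.Count

/-!
# Values of a character constant on the nontrivial powers of an element of order 11

If `χ (z ^ k) = v` for all nontrivial powers of `z`, then the fixed space of `z` has dimension
`f = (d + 10 v) / 11` and an involution normalising `⟨z⟩` has trace at most `f` there.
-/

set_option autoImplicit false

namespace Cfsg.Agent.M12Graph71

open Subgroup M12Ord86 SmallGroups.SelfCent

variable {G : Type*} [Group G] [Fintype G]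

theorem elems_zpowers [DecidableEq G] {z : G} {p : ℕ} (hz : orderOf z = p) :
    elems (zpowers z) = (Finset.range p).image (z ^ ·) := by
  ext g
  rw [mem_elems, (isOfFinOrder_of_finite z).mem_zpowers_iff_mem_range_orderOf, hz]

theorem sum_elems_zpowers {z : G} {p : ℕ} (hz : orderOf z = p) (F : G → ℂ) :
    ∑ g ∈ elems (zpowers z), F g = ∑ k ∈ Finset.range p, F (z ^ k) := by
  classical
  rw [elems_zpowers hz, Finset.sum_image]
  intro a ha b hb h
  exact pow_injOn_Iio_orderOf (by rw [hz]; simpa using ha) (by rw [hz]; simpa using hb) h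

variable {n : ℕ} (ρ : Representation ℂ G (Fin n → ℂ)) {z : G}

/-- The fixed space of `z` for a representation constant on the nontrivial powers of `z`. -/
theorem trace_proj_zpowers (hz : orderOf z = 11) {v : ℤ}
    (hv : ∀ k : ℕ, 0 < k → k < 11 → ρ.character (z ^ k) = v) :
    11 * LinearMap.trace ℂ _ (proj ρ (zpowers z)) = (n : ℂ) + 10 * (v : ℂ) := by
  rw [trace_proj, Nat.card_zpowers, hz, sum_elems_zpowers hz, Finset.sum_range_succ',
    Finset.sum_congr rfl fun k hk => hv (k + 1) k.succ_pos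
      (by have := Finset.mem_range.mp hk; omega),
    Finset.sum_const, Finset.card_range, pow_zero, Representation.char_one]
  simp [Module.finrank_fin_fun]
  ring

/-- An involution normalising `⟨z⟩` has trace between `-f` and `f` on the fixed space. -/
theorem trace_mul_proj {u : G} (hu : u ∈ normalizer (zpowers z : Set G)) (hu2 : u ^ 2 = 1) :
    ∃ a b : ℕ, LinearMap.trace ℂ _ (ρ u * proj ρ (zpowers z)) = (a : ℂ) - b ∧
      LinearMap.trace ℂ _ (proj ρ (zpowers z)) = (a : ℂ) + b := by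
  set E := proj ρ (zpowers z) with hE
  set A := ρ u * E with hA
  have hEE : E * E = E := proj_idem
  have hc : ρ u * E = E * ρ u := commute_proj hu
  have hAE : A * E = A := by rw [hA, mul_assoc, hEE]
  have hEA : E * A = A := by rw [hA, ← mul_assoc, ← hc, mul_assoc, hEE]
  have hAA : A * A = E := by
    calc A * A = ρ u * (E * A) := by rw [hA, mul_assoc]
      _ = E := by rw [hEA, hA, ← mul_assoc, ← map_mul, ← sq, hu2, map_one, one_mul]
  have hidem : ∀ c : ℂ, c * c = 1 →
      IsIdempotentElem ((1 / 2 : ℂ) • (E + c • A)) := by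
    intro c hc1
    rcases mul_self_eq_one_iff.mp hc1 with rfl | rfl <;>
    unfold IsIdempotentElem <;>
    simp only [smul_mul_assoc, mul_smul_comm, smul_smul, add_mul, mul_add, hEE, hEA, hAE, hAA,
      one_smul] <;>
    module
  obtain ⟨a, ha⟩ : ∃ a : ℕ, LinearMap.trace ℂ _ ((1 / 2 : ℂ) • (E + (1 : ℂ) • A)) = a :=
    ⟨_, ((LinearMap.isProj_range_iff_isIdempotentElem _).mpr (hidem 1 (one_mul 1))).trace⟩
  obtain ⟨b, hb⟩ : ∃ b : ℕ, LinearMap.trace ℂ _ ((1 / 2 : ℂ) • (E + (-1 : ℂ) • A)) = b :=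
    ⟨_, ((LinearMap.isProj_range_iff_isIdempotentElem _).mpr (hidem (-1) (by norm_num))).trace⟩
  simp only [map_smul, map_add, smul_eq_mul, one_mul] at ha hb
  exact ⟨a, b, by linear_combination ha - hb, by linear_combination ha + hb⟩

/-- The sum over the coset `⟨z⟩ u`. -/
theorem sum_mul_character (hz : orderOf z = 11) (u : G) :
    11 * LinearMap.trace ℂ _ (ρ u * proj ρ (zpowers z)) =
      ∑ k ∈ Finset.range 11, ρ.character (u * z ^ k) := by
  rw [proj, mul_smul_comm, map_smul, Nat.card_zpowers, hz, Finset.mul_sum, map_sum,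
    sum_elems_zpowers hz (fun g => LinearMap.trace ℂ _ (ρ u * ρ g)), smul_eq_mul, ← mul_assoc]
  norm_num
  exact Finset.sum_congr rfl fun k _ => by rw [← map_pow, ← map_mul]; rfl

/-- The conjugates of an inverting element exhaust the coset. -/
theorem conj_mul_pow {u : G} (hz : orderOf z = 11) (hinv : u * z * u⁻¹ = z⁻¹) (k : ℕ) :
    z ^ (5 * k) * u * (z ^ (5 * k))⁻¹ = u * z ^ k := by
  have h1 : ∀ j : ℕ, u * z ^ j = (z ^ j)⁻¹ * u := fun j => by
    have h : u * z ^ j * u⁻¹ = (z ^ j)⁻¹ := by rw [← conj_pow, hinv, inv_pow]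
    rw [← h]
    group
  have h2 : ∀ j : ℕ, z ^ j * u = u * (z ^ j)⁻¹ := fun j => by
    have h := h1 j
    calc z ^ j * u = z ^ j * ((z ^ j)⁻¹ * u) * (z ^ j)⁻¹ * 1 * 1 := by
          rw [← h]; group
      _ = u * (z ^ j)⁻¹ := by group
  rw [h2, mul_assoc]
  congr 1
  have h3 : z ^ (11 * k) = 1 := by rw [pow_mul, ← hz, pow_orderOf_eq_one, one_pow]
  rw [← mul_inv_rev, ← pow_add, inv_eq_iff_mul_eq_one, ← pow_add, show 5 * k + 5 * k + k = 11 * k
    by ring]
  exact h3

/-- What the values at the powers of `z` give. -/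
structure Val (χ : Cfsg.IrrCharacter G) (z : G) (d : ℕ) (v : ℤ) (f : ℕ) : Prop where
  deg : (χ : G → ℂ) 1 = d
  eq : (d : ℤ) + 10 * v = 11 * f
  inv : ∀ u : G, u ^ 2 = 1 → u * z * u⁻¹ = z⁻¹ →
    ∃ s : ℤ, (χ : G → ℂ) u = s ∧ -(f : ℤ) ≤ s ∧ s ≤ f ∧ (2 : ℤ) ∣ f - s
  comm : ∀ u : G, u ^ 2 = 1 → u * z = z * u →
    (∀ k : ℕ, 0 < k → k < 11 → (χ : G → ℂ) (u * z ^ k) = v) →
    ∃ s : ℤ, (χ : G → ℂ) u = ((11 * s - 10 * v : ℤ) : ℂ) ∧ -(f : ℤ) ≤ s ∧ s ≤ f ∧
      (2 : ℤ) ∣ f - s
  fixfree : f = 0 → ∀ w : G, (∀ k : ℕ, 0 < k → k < 11 → (χ : G → ℂ) (w * z ^ k) = v) →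
    (χ : G → ℂ) w = d

theorem exists_val (χ : Cfsg.IrrCharacter G) (hz : orderOf z = 11) {v : ℤ}
    (hv : ∀ k : ℕ, 0 < k → k < 11 → (χ : G → ℂ) (z ^ k) = v) :
    ∃ f : ℕ, Val χ z (Setup.deg χ) v f := by
  obtain ⟨m, ρ, -, hρ⟩ := χ.2
  have hd : (Setup.deg χ : ℂ) = (m : ℂ) := by
    rw [← (Setup.deg_spec χ).2.2, ← hρ, Representation.char_one, Module.finrank_fin_fun]
  have htr := trace_proj_zpowers ρ hz (v := v) (fun k h1 h2 => by rw [hρ]; exact hv k h1 h2)
  have hnor : ∀ u : G, (u * z * u⁻¹ = z⁻¹ ∨ u * z = z * u) →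
      u ∈ normalizer (zpowers z : Set G) := by
    intro u h
    have hin : u * z * u⁻¹ ∈ zpowers z := by
      rcases h with h | h
      · rw [h]; exact inv_mem (mem_zpowers z)
      · rw [h, mul_inv_cancel_right]; exact mem_zpowers z
    have hle : (zpowers z).map (MulAut.conj u).toMonoidHom = zpowers z := by
      refine Subgroup.eq_of_le_of_card_ge ?_ (le_of_eq (Nat.card_congr
        ((zpowers z).equivMapOfInjective _ (MulAut.conj u).injective).toEquiv))
      rw [MonoidHom.map_zpowers, zpowers_le]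
      simpa using hin
    rw [mem_normalizer_iff]
    intro g
    have := Subgroup.mem_map_equiv (f := MulAut.conj u) (K := zpowers z) (x := u * g * u⁻¹)
    rw [show MulEquiv.toMonoidHom (MulAut.conj u) = (↑(MulAut.conj u) : G →* G) from rfl,
      show (zpowers z).map (↑(MulAut.conj u) : G →* G) = zpowers z from hle] at this
    simpa [mul_assoc] using this.symm
  refine ⟨Module.finrank ℂ (LinearMap.range (proj ρ (zpowers z))), ⟨(Setup.deg_spec χ).2.2, ?_,
    fun u hu2 hinv => ?_, fun u hu2 hcom hval => ?_, fun hf w hval => ?_⟩⟩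
  · rw [trace_proj_eq_finrank, ← hd] at htr
    exact_mod_cast htr.symm
  · obtain ⟨a, b, hab, hf⟩ := trace_mul_proj ρ (hnor u (Or.inl hinv)) hu2
    have hs := sum_mul_character ρ hz u
    have hconst : ∀ k ∈ Finset.range 11, ρ.character (u * z ^ k) = ρ.character u := fun k _ => by
      rw [← conj_mul_pow hz hinv k, Representation.char_conj]
    rw [Finset.sum_congr rfl hconst, Finset.sum_const, Finset.card_range, nsmul_eq_mul, hρ, hab]
      at hs
    rw [trace_proj_eq_finrank, ← Nat.cast_add, Nat.cast_inj] at hf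
    refine ⟨(a : ℤ) - b, ?_, ?_, ?_, ⟨(b : ℤ), ?_⟩⟩
    · push_cast at hs ⊢
      linear_combination -hs / 11
    all_goals omega
  · obtain ⟨a, b, hab, hf⟩ := trace_mul_proj ρ (hnor u (Or.inr hcom)) hu2
    have hs := sum_mul_character ρ hz u
    rw [hab, Finset.sum_range_succ', Finset.sum_congr rfl fun k hk => (by
        rw [hρ]; exact hval (k + 1) k.succ_pos (by have := Finset.mem_range.mp hk; omega) :
          ρ.character (u * z ^ (k + 1)) = (v : ℂ)),
      Finset.sum_const, Finset.card_range, pow_zero, mul_one, hρ, nsmul_eq_mul] at hs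
    rw [trace_proj_eq_finrank, ← Nat.cast_add, Nat.cast_inj] at hf
    refine ⟨(a : ℤ) - b, ?_, ?_, ?_, ⟨(b : ℤ), ?_⟩⟩
    · push_cast at hs ⊢
      linear_combination -hs
    all_goals omega
  · have h0 : proj ρ (zpowers z) = 0 := proj_eq_zero (by rw [trace_proj_eq_finrank, hf]; simp)
    have hs := sum_mul_character ρ hz w
    rw [h0, mul_zero, map_zero, mul_zero, Finset.sum_range_succ',
      Finset.sum_congr rfl fun k hk => (by
        rw [hρ]; exact hval (k + 1) k.succ_pos (by have := Finset.mem_range.mp hk; omega) :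
          ρ.character (w * z ^ (k + 1)) = (v : ℂ)),
      Finset.sum_const, Finset.card_range, pow_zero, mul_one, hρ, nsmul_eq_mul] at hs
    rw [h0, map_zero, mul_zero, ← hd] at htr
    push_cast at hs
    linear_combination -hs + htr

end Cfsg.Agent.M12Graph71
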