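import Cfsg.Agent.Lib.BlocksCore.CyclicPrincipal
import Cfsg.Agent.Lib.SmallGroups.SelfCent.Two
import Cfsg.Agent.M12Graph71.Trace
import Cfsg.Agent.Blocks88.Modular

/-!
# The principal 11-block when the normaliser induces 2 or 10 automorphisms
-/

set_option autoImplicit false
set_option linter.unusedSectionVars false

namespace Cfsg.Agent.M12Graph71

open BlocksDefect SmallGroups.SelfCent BlocksCore

variable {G : Type*} [Group G] [Fintype G] [Fact (Nat.Prime 11)]

/-- The value on `z ^ k * K` of a member with constant vector. -/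
theorem value_of_const {M : Ideal Cfsg.AlgInt} (hM : Cfsg.IsPModular 11 M) (s : Setup G 11)
    {χ : Cfsg.IrrCharacter G} (hχ : χ ∈ Cfsg.principalBlock M G) (c : ℤ)
    (hc : ∀ o, s.vecO χ o = c) {w : G} (hw : w ∈ s.K) {k : ℕ} (hk : 0 < k) (hk' : k < 11) :
    (χ : G → ℂ) (w * s.z ^ k) = ((-c : ℤ) : ℂ) := by
  have hk0 : (k : ZMod 11) ≠ 0 := by
    rw [Ne, ZMod.natCast_eq_zero_iff]
    intro h
    have := Nat.le_of_dvd hk h
    omega
  rw [← (Commute.pow_right (show Commute w s.z from s.comm w hw) k).eq.symm, ← s.zp_natCast,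
    CyclicPrincipal.apply_zp_mul hM s hk0 hw hχ, s.phi_of_const χ c hc hk0]
  push_cast
  rfl

theorem triv_mem {M : Ideal Cfsg.AlgInt} (hM : Cfsg.IsPModular 11 M) (s : Setup G 11) :
    (Setup.triv : Cfsg.IrrCharacter G) ∈ Cfsg.principalBlock M G := by
  by_contra h
  have h1 := CyclicBlock.vec_of_notMem s hM h (1 : ZMod 11)
  have h2 : s.vec (Setup.triv : Cfsg.IrrCharacter G) 1 = -1 := s.vec_trivial one_ne_zero
  omega

open scoped Classical in
/-- `e = 10`: eleven characters constant on the nontrivial `11`-sections. -/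
theorem exists_block_ten (s : Setup G 11) (hidx : ¬ 11 ∣ (Subgroup.zpowers s.z).index)
    (he : Nat.card s.auto = 10) :
    ∃ (B : Finset (Cfsg.IrrCharacter G)) (δ : Cfsg.IrrCharacter G → ℤ),
      Setup.triv ∈ B ∧ δ Setup.triv = 1 ∧ B.card = 11 ∧
      (∀ χ ∈ B, (δ χ = 1 ∨ δ χ = -1) ∧ ∀ w ∈ s.K, ∀ k : ℕ, 0 < k → k < 11 →
        (χ : G → ℂ) (w * s.z ^ k) = (δ χ : ℂ)) ∧
      ∑ χ ∈ B, δ χ * (Setup.deg χ : ℤ) = 0 ∧
      (s.K = ⊥ → ∀ χ : Cfsg.IrrCharacter G, χ ∉ B → ∀ k : ℕ, 0 < k → k < 11 →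
        (χ : G → ℂ) (s.z ^ k) = 0) := by
  obtain ⟨M, hM⟩ := Blocks88.exists_isPModular (Fact.out : Nat.Prime 11)
  have := isPrime hM
  haveI := Fintype.ofFinite s.Orb
  obtain ⟨f, c, ε, hε, hf, hfB, hvf, hcx, hcard⟩ := CyclicPrincipal.exists_shape hM s hidx
  have hcardO : Fintype.card s.Orb = 1 := by
    have h := s.card_orb_mul
    rw [he, Nat.card_eq_fintype_card] at h
    omega
  obtain ⟨o, ho⟩ := Fintype.card_eq_one_iff.mp hcardO
  let B := CyclicPrincipal.members M G
  have hconst : ∀ χ : Cfsg.IrrCharacter G, ∀ i, s.vecO χ i = s.vecO χ o := fun χ i => by rw [ho i]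
  have hu : ∀ χ ∈ B, s.vecO χ o = 1 ∨ s.vecO χ o = -1 := by
    intro χ hχ
    by_cases h : ∃ i, f i = χ
    · obtain ⟨i, rfl⟩ := h
      rw [hvf o i, if_pos (ho i).symm]
      exact hε
    · obtain ⟨h1, h2⟩ := hcx χ hχ fun i hi => h ⟨i, hi⟩
      rw [h2 o]
      exact h1
  refine ⟨B, fun χ => - s.vecO χ o, CyclicPrincipal.mem_members.mpr (triv_mem hM s), ?_, ?_,
    fun χ hχ => ⟨?_, fun w hw k hk hk' => ?_⟩, ?_, fun hK χ hχ k hk hk' => ?_⟩
  · show - s.vecO Setup.triv o = 1
    rw [s.vecO_triv]; rfl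
  · rw [hcard, he, hcardO]
  · rcases hu χ hχ with h | h <;> simp [h]
  · exact value_of_const hM s (CyclicPrincipal.mem_members.mp hχ) _ (hconst χ) hw hk hk'
  · have h := s.sum_deg_mul_vecO o
    rw [← Finset.sum_subset (Finset.subset_univ B) fun χ _ hχ => by
      rw [Setup.vecO, CyclicBlock.vec_of_notMem s hM
        (fun h => hχ (CyclicPrincipal.mem_members.mpr h)), mul_zero]] at h
    rw [← neg_eq_zero, ← Finset.sum_neg_distrib]
    refine Eq.trans (Finset.sum_congr rfl fun χ _ => ?_) h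
    ring
  · have hk0 : (k : ZMod 11) ≠ 0 := by
      rw [Ne, ZMod.natCast_eq_zero_iff]
      intro h
      have := Nat.le_of_dvd hk h
      omega
    have h0 : ∀ i, s.vecO χ i = 0 := fun i =>
      CyclicBlock.vec_of_notMem s hM (fun h => hχ (CyclicPrincipal.mem_members.mpr h)) _
    have h1 := s.phi_of_const χ 0 h0 hk0
    have hks : s.kset = {1} := by
      ext w; simp [Setup.mem_kset, hK]
    simpa [Setup.phi, hks, s.zp_natCast] using h1

theorem degree_key : ∀ a ∈ List.range 309, a ∣ 95040 → (a % 11 = 1 ∨ a % 11 = 10) →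
    ∀ b ∈ [a + 1, a - 1], b ∣ 95040 → (b % 11 = 2 ∨ b % 11 = 9) → a = 1 ∨ a = 10 := by
  decide +kernel

open scoped Classical in
/-- `e = 2`: a character of degree 10 with value `-1` on the nontrivial `11`-sections. -/
theorem exists_degree_ten [IsSimpleGroup G] (hG : ¬ IsMulCommutative G) (s : Setup G 11)
    (hidx : ¬ 11 ∣ (Subgroup.zpowers s.z).index) (he : Nat.card s.auto = 2)
    (hdvd : Nat.card G ∣ 95040) :
    ∃ χ : Cfsg.IrrCharacter G, Setup.deg χ = 10 ∧ ∀ w ∈ s.K, ∀ k : ℕ, 0 < k → k < 11 →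
      (χ : G → ℂ) (w * s.z ^ k) = ((-1 : ℤ) : ℂ) := by
  obtain ⟨M, hM⟩ := Blocks88.exists_isPModular (Fact.out : Nat.Prime 11)
  have := isPrime hM
  haveI := Fintype.ofFinite s.Orb
  obtain ⟨f, c, ε, hε, hf, hfB, hvf, hcx, hcard⟩ := CyclicPrincipal.exists_shape hM s hidx
  have hcardO : Fintype.card s.Orb = 5 := by
    have h := s.card_orb_mul
    rw [he, Nat.card_eq_fintype_card] at h
    omega
  haveI : Nonempty s.Orb := Fintype.card_pos_iff.mp (by omega)
  haveI : Nontrivial s.Orb := Fintype.one_lt_card_iff_nontrivial.mp (by omega)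
  let B := CyclicPrincipal.members M G
  let Y := Finset.univ.image f
  have hYB : Y ⊆ B := fun x hx => by
    obtain ⟨i, -, rfl⟩ := Finset.mem_image.mp hx
    exact hfB i
  have htY : Setup.triv ∉ Y := by
    intro h
    obtain ⟨i, -, hi⟩ := Finset.mem_image.mp h
    obtain ⟨j, hj⟩ := exists_ne i
    have h1 := hvf j i
    rw [if_neg hj, hi, s.vecO_triv] at h1
    omega
  have hX : (B \ Y).card = 2 := by
    rw [Finset.card_sdiff_of_subset hYB, hcard, he, Finset.card_image_of_injective _ hf,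
      Finset.card_univ, hcardO]
  have ht : Setup.triv ∈ B \ Y :=
    Finset.mem_sdiff.mpr ⟨CyclicPrincipal.mem_members.mpr (triv_mem hM s), htY⟩
  obtain ⟨χ, hχ⟩ : ∃ χ, (B \ Y).erase Setup.triv = {χ} := by
    rw [← Finset.card_eq_one, Finset.card_erase_of_mem ht, hX]
  have hχm : χ ∈ (B \ Y).erase Setup.triv := hχ ▸ Finset.mem_singleton_self χ
  obtain ⟨hχ1, hχX⟩ := Finset.mem_erase.mp hχm
  obtain ⟨hχB, hχY⟩ := Finset.mem_sdiff.mp hχX
  obtain ⟨hc, hcv⟩ := hcx χ hχB fun i hi =>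
    hχY (Finset.mem_image.mpr ⟨i, Finset.mem_univ i, hi⟩)
  obtain ⟨o⟩ := (inferInstance : Nonempty s.Orb)
  -- the degree relation
  have hrel := s.sum_deg_mul_vecO o
  rw [← Finset.sum_subset (Finset.subset_univ B) fun χ _ hχ => by
      rw [Setup.vecO, CyclicBlock.vec_of_notMem s hM
        (fun h => hχ (CyclicPrincipal.mem_members.mpr h)), mul_zero],
    ← Finset.sum_sdiff hYB, ← Finset.add_sum_erase _ _ ht, hχ, Finset.sum_singleton,
    Finset.sum_image (fun a _ b _ h => hf h), Setup.deg_triv, s.vecO_triv, hcv o,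
    Finset.sum_eq_single o (fun j _ hj => by rw [hvf, if_neg (Ne.symm hj), mul_zero]) (by simp),
    hvf, if_pos rfl] at hrel
  -- congruences
  obtain ⟨ft, hft⟩ := exists_val χ s.orderOf_z (v := -c χ) fun k hk hk' => by
    simpa using value_of_const hM s (CyclicPrincipal.mem_members.mp hχB) _ hcv (one_mem s.K) hk hk'
  have ha := hft.eq
  have hb := CyclicBlock.charDegree_modEq s hM (CyclicPrincipal.mem_members.mp (hfB o))
  simp only [hvf, Finset.sum_ite_eq', Finset.mem_univ, if_true, he] at hb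
  rw [← Setup.deg_eq_charDegree (p := 11), Int.modEq_iff_dvd] at hb
  obtain ⟨q, hq⟩ := hb
  -- size
  have hsum : ∑ θ ∈ insert χ Y, (Setup.deg θ : ℤ) ^ 2 ≤ (Nat.card G : ℤ) := by
    have h := CharCore.sum_degree_mul_apply (1 : G)
    rw [if_pos rfl] at h
    have h' : ∑ θ : Cfsg.IrrCharacter G, (Setup.deg θ : ℤ) ^ 2 = (Nat.card G : ℤ) := by
      apply Int.cast_injective (α := ℂ)
      push_cast
      rw [← h]
      exact Finset.sum_congr rfl fun θ _ => by rw [(Setup.deg_spec θ).2.2, sq]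
    rw [← h']
    exact Finset.sum_le_univ_sum_of_nonneg fun θ => sq_nonneg _
  have hdeg : ∀ i, (Setup.deg (f i) : ℤ) = Setup.deg (f o) := by
    intro i
    have h := s.sum_deg_mul_vecO i
    rw [← Finset.sum_subset (Finset.subset_univ B) fun χ _ hχ => by
        rw [Setup.vecO, CyclicBlock.vec_of_notMem s hM
          (fun h => hχ (CyclicPrincipal.mem_members.mpr h)), mul_zero],
      ← Finset.sum_sdiff hYB, ← Finset.add_sum_erase _ _ ht, hχ, Finset.sum_singleton,
      Finset.sum_image (fun a _ b _ h => hf h), Setup.deg_triv, s.vecO_triv, hcv i,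
      Finset.sum_eq_single i (fun j _ hj => by rw [hvf, if_neg (Ne.symm hj), mul_zero]) (by simp),
      hvf, if_pos rfl] at h
    rcases hε with e | e <;> rw [e] at h hrel <;> linarith
  rw [Finset.sum_insert hχY, Finset.sum_image (fun a _ b _ h => hf h),
    Finset.sum_congr rfl fun i _ => by rw [hdeg i], Finset.sum_const, Finset.card_univ, hcardO,
    nsmul_eq_mul] at hsum
  have hle : Nat.card G ≤ 95040 := Nat.le_of_dvd (by norm_num) hdvd
  have ha1 : Setup.deg χ ≠ 1 := fun h => hχ1 ((deg_eq_one_iff hG χ).mp h)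
  obtain ⟨-, hadvd, -⟩ := Setup.deg_spec χ
  obtain ⟨hbpos, hbdvd, -⟩ := Setup.deg_spec (f o)
  push_cast at hsum
  have hle' : ((Nat.card G : ℕ) : ℤ) ≤ 95040 := by exact_mod_cast hle
  have hla : Setup.deg χ < 309 := by
    have : (Setup.deg χ : ℤ) < 309 := by nlinarith
    exact_mod_cast this
  have hlb : Setup.deg (f o) < 139 := by
    have : (Setup.deg (f o) : ℤ) < 139 := by nlinarith
    exact_mod_cast this
  have h10 : Setup.deg χ = 10 := by
    refine (degree_key _ (List.mem_range.mpr hla) (hadvd.trans hdvd) ?_ _ ?_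
      (hbdvd.trans hdvd) ?_).resolve_left ha1
    rotate_left
    · simp only [List.mem_cons, List.not_mem_nil, or_false]
      rcases hc with e | e <;> rcases hε with e' | e' <;> rw [e] at hrel ha <;>
        rw [e'] at hrel hq <;> push_cast at hrel ha hq ⊢ <;> omega
    all_goals
      rcases hc with e | e <;> rcases hε with e' | e' <;> rw [e] at hrel ha <;>
        rw [e'] at hrel hq <;> push_cast at hrel ha hq ⊢ <;> omega
  refine ⟨χ, h10, fun w hw k hk hk' => ?_⟩
  rw [value_of_const hM s (CyclicPrincipal.mem_members.mp hχB) _ hcv hw hk hk']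
  rw [h10] at ha
  rcases hc with e | e <;> rw [e] at ha ⊢
  omega

end Cfsg.Agent.M12Graph71
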