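import Cfsg.Agent.Classification.SimpleOrderTools
import Mathlib.GroupTheory.Sylow
import Mathlib.Algebra.Group.End

/-!
# Elements of order 11 on groups of order dividing 8640
-/

set_option autoImplicit false

namespace Cfsg.Agent.M12Graph71

open Subgroup

theorem pow_key : ∀ p ∈ [2, 3, 5], ∀ a ∈ List.range 7, ∀ b ∈ List.range 7, b ≤ a →
    p ^ a ∣ 8640 → p ^ a % 11 = p ^ b % 11 → a = b := by
  decide +kernel

theorem prime_exp {p a : ℕ} (hp : p.Prime) (h : p ^ a ∣ 8640) :
    a = 0 ∨ p ∈ [2, 3, 5] ∧ a ∈ List.range 7 := by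
  rcases Nat.eq_zero_or_pos a with ha | ha
  · exact Or.inl ha
  have hp' : p ∣ 2 ^ 6 * 3 ^ 3 * 5 :=
    ((dvd_pow_self p ha.ne').trans h).trans (by norm_num)
  have hmem : p ∈ [2, 3, 5] := by
    simp only [List.mem_cons, List.not_mem_nil, or_false]
    rcases (Nat.Prime.dvd_mul hp).1 hp' with h' | h'
    · rcases (Nat.Prime.dvd_mul hp).1 h' with h'' | h''
      · exact Or.inl ((Nat.prime_dvd_prime_iff_eq hp Nat.prime_two).1 (hp.dvd_of_dvd_pow h''))
      · exact Or.inr (Or.inl
          ((Nat.prime_dvd_prime_iff_eq hp Nat.prime_three).1 (hp.dvd_of_dvd_pow h'')))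
    · exact Or.inr (Or.inr ((Nat.prime_dvd_prime_iff_eq hp (by norm_num)).1 h'))
  refine Or.inr ⟨hmem, List.mem_range.mpr ?_⟩
  by_contra hc
  have h7 : p ^ 7 ∣ 8640 := (pow_dvd_pow p (by omega)).trans h
  simp only [List.mem_cons, List.not_mem_nil, or_false] at hmem
  rcases hmem with rfl | rfl | rfl <;> norm_num at h7

/-- An automorphism of order dividing 11 of a group of order dividing 8640 is trivial. -/
theorem aut_eq_one {N : Type*} [Group N] [Finite N] (hN : Nat.card N ∣ 8640) (σ : MulAut N)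
    (hσ : σ ^ 11 = 1) : σ = 1 := by
  have : Fact (Nat.Prime 11) := ⟨by norm_num⟩
  set F : Subgroup N := MonoidHom.eqLocus σ.toMonoidHom (MonoidHom.id N) with hF
  have hmemF : ∀ n, n ∈ F ↔ σ n = n := fun n => Iff.rfl
  suffices h : Nat.card N ∣ Nat.card F by
    have htop : F = ⊤ := eq_top_of_card_eq F
      (Nat.dvd_antisymm (card_subgroup_dvd_card F) h)
    ext n
    exact (hmemF n).mp (htop ▸ mem_top n)
  refine (Nat.dvd_iff_prime_pow_dvd_dvd _ _).mpr fun p k hp hk => ?_
  have : Fact p.Prime := ⟨hp⟩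
  -- a fixed Sylow subgroup
  let τ : Equiv.Perm (Sylow p N) := MulAction.toPermHom (MulAut N) (Sylow p N) σ
  have hτ : τ ^ 11 = 1 := by rw [← map_pow, hσ, map_one]
  have hns : ¬ 11 ∣ Nat.card (Sylow p N) := by
    intro h
    obtain ⟨P₀⟩ := (inferInstance : Nonempty (Sylow p N))
    have := (h.trans (P₀.card_dvd_index.trans (P₀ : Subgroup N).index_dvd_card)).trans hN
    norm_num at this
  have hfix := Classification.card_modEq_fixed hτ
  obtain ⟨⟨P, hP⟩⟩ : Nonempty {P : Sylow p N // τ P = P} := by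
    refine (Nat.card_pos_iff.mp (Nat.pos_of_ne_zero fun h0 => hns ?_)).1
    rw [h0] at hfix
    exact Nat.modEq_zero_iff_dvd.mp hfix
  have hinv : ∀ n ∈ (P : Subgroup N), σ n ∈ (P : Subgroup N) := by
    intro n hn
    have h : σ • P = P := hP
    rw [← h]
    exact Subgroup.smul_mem_pointwise_smul n σ _ hn
  -- fixed points on it
  let ρ : Equiv.Perm (P : Subgroup N) :=
    Equiv.ofBijective (fun n => ⟨σ n.1, hinv n.1 n.2⟩)
      ((Finite.injective_iff_bijective).mp fun a b h =>
        Subtype.ext (σ.injective (congrArg Subtype.val h)))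
  have hρval : ∀ (j : ℕ) (n : (P : Subgroup N)), ((ρ ^ j) n : N) = (σ ^ j) n.1 := by
    intro j
    induction j with
    | zero => intro n; rfl
    | succ j ih =>
      intro n
      rw [pow_succ', pow_succ', Equiv.Perm.mul_apply, MulAut.mul_apply, ← ih n]
      rfl
  have hρ : ρ ^ 11 = 1 := by
    ext n
    rw [hρval, hσ]
    rfl
  have hfix2 := Classification.card_modEq_fixed hρ
  have he : Nat.card {n // ρ n = n} = Nat.card ↥(F ⊓ (P : Subgroup N)) :=
    Nat.card_congr
      { toFun := fun n => ⟨n.1.1, (hmemF _).mpr (congrArg Subtype.val n.2), n.1.2⟩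
        invFun := fun n => ⟨⟨n.1, n.2.2⟩, Subtype.ext ((hmemF _).mp n.2.1)⟩
        left_inv := fun _ => rfl
        right_inv := fun _ => rfl }
  obtain ⟨a, ha⟩ := IsPGroup.iff_card.mp P.2
  obtain ⟨b, hb⟩ := IsPGroup.iff_card.mp (P.2.to_le (inf_le_right : F ⊓ (P : Subgroup N) ≤ _))
  rw [he, ha, hb] at hfix2
  have hba : b ≤ a := by
    have h := Nat.le_of_dvd Nat.card_pos
      (card_dvd_of_le (inf_le_right : F ⊓ (P : Subgroup N) ≤ _))
    rw [ha, hb] at h
    exact (Nat.pow_le_pow_iff_right hp.one_lt).mp h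
  have hab : a = b := by
    have hdvd : p ^ a ∣ 8640 := ha ▸ (card_subgroup_dvd_card _).trans hN
    rcases prime_exp hp hdvd with h0 | ⟨hpm, ham⟩
    · omega
    · exact pow_key p hpm a ham b (List.mem_range.mpr (by have := List.mem_range.mp ham; omega))
        hba hdvd hfix2
  have hPF : p ^ a ∣ Nat.card F := hab ▸ hb ▸ card_dvd_of_le inf_le_left
  refine (pow_dvd_pow p ?_).trans hPF
  rw [P.card_eq_multiplicity] at ha
  rw [← (Nat.pow_right_injective hp.two_le) ha]
  exact (hp.pow_dvd_iff_le_factorization Nat.card_pos.ne').mp hk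

theorem dvd_8640 {n : ℕ} (h : n ∣ 95040) (h11 : ¬ 11 ∣ n) : n ∣ 8640 :=
  (Nat.Coprime.dvd_of_dvd_mul_left
    (((show Nat.Prime 11 by norm_num).coprime_iff_not_dvd.mpr h11).symm)
    (show n ∣ 11 * 8640 by norm_num; exact h))

variable {G : Type*} [Group G] [Finite G]

/-- An element of order dividing 11 centralises every normalised subgroup of order prime to 11. -/
theorem commute_of_normalizes (hG : Nat.card G ∣ 95040) {x : G} (hx : x ^ 11 = 1) {N : Subgroup G}
    (hxN : x ∈ normalizer (N : Set G)) (h11 : ¬ 11 ∣ Nat.card N) :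
    ∀ n ∈ N, Commute x n := by
  intro n hn
  have h := aut_eq_one (dvd_8640 ((card_subgroup_dvd_card N).trans hG) h11)
    (N.normalizerMonoidHom ⟨x, hxN⟩) (by
      rw [← map_pow, show (⟨x, hxN⟩ : normalizer (N : Set G)) ^ 11 = 1 from Subtype.ext hx,
        map_one])
  have h2 : x * n * x⁻¹ = n := by
    have h3 := congrArg Subtype.val (DFunLike.congr_fun h ⟨n, hn⟩)
    simpa using h3
  exact mul_inv_eq_iff_eq_mul.mp h2

/-- On twelve points a point-fixing element commuting with an element of order 11 is a power of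
it. -/
theorem mem_zpowers_of_twelve {α : Type*} [MulAction G α] [Finite α] [FaithfulSMul G α]
    (hα : Nat.card α = 12) {x w : G} (hx : orderOf x = 11) (a : α) (hxa : x • a = a)
    (hwa : w • a = a) (hc : Commute x w) : w ∈ zpowers x := by
  classical
  have : Fact (Nat.Prime 11) := ⟨by norm_num⟩
  have hxp : x ^ 11 = 1 := by rw [← hx, pow_orderOf_eq_one]
  have hmov := Classification.dvd_card_moved (α := α) hxp
  have hsum := Classification.card_moved_add_fixed (α := α) x
  have hpos : 0 < Nat.card {b : α // x • b ≠ b} := by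
    refine Nat.card_pos_iff.mpr ⟨?_, inferInstance⟩
    by_contra hc'
    rw [not_nonempty_iff] at hc'
    have h1 : x = 1 := eq_of_smul_eq_smul (α := α) fun b => by
      by_contra hb
      exact hc'.false ⟨b, by rwa [one_smul] at hb⟩
    rw [h1, orderOf_one] at hx
    norm_num at hx
  have hfixpos : 0 < Nat.card (MulAction.fixedBy α x) :=
    Nat.card_pos_iff.mpr ⟨⟨⟨a, hxa⟩⟩, inferInstance⟩
  have h1 : Nat.card (MulAction.fixedBy α x) = 1 := by
    obtain ⟨c, hc'⟩ := hmov
    omega
  have huniq : ∀ b, x • b = b → b = a := fun b hb => by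
    have := (Nat.card_eq_one_iff_unique.mp h1).1
    exact congrArg Subtype.val (Subsingleton.elim (⟨b, hb⟩ : MulAction.fixedBy α x) ⟨a, hxa⟩)
  obtain ⟨⟨b, hb⟩⟩ := (Nat.card_pos_iff.mp hpos).1
  -- the orbit of `b` consists of all other points
  have hinj : ∀ i < 11, ∀ j < 11, x ^ i • b = x ^ j • b → i = j := by
    suffices h : ∀ i j, i < j → j < 11 → x ^ i • b ≠ x ^ j • b by
      intro i hi j hj hij
      rcases lt_trichotomy i j with h' | h' | h'
      · exact absurd hij (h i j h' hj)
      · exact h'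
      · exact absurd hij.symm (h j i h' hi)
    intro i j hij hj heq
    rw [show j = i + (j - i) by omega, pow_add, mul_smul, smul_left_cancel_iff] at heq
    have hcop : Nat.Coprime (j - i) (orderOf x) := by
      rw [hx]
      exact ((show Nat.Prime 11 by norm_num).coprime_iff_not_dvd.mpr fun h =>
        by have := Nat.le_of_dvd (by omega) h; omega).symm
    obtain ⟨m, hm⟩ := exists_pow_eq_self_of_coprime hcop
    refine hb ?_
    rw [← hm]
    exact MulAction.mem_stabilizer_iff.mp
      (pow_mem (MulAction.mem_stabilizer_iff.mpr heq.symm) m)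
  have hall : ∀ c, c = a ∨ ∃ i < 11, x ^ i • b = c := by
    intro c
    have := Fintype.ofFinite α
    let S : Finset α := insert a ((Finset.range 11).image fun i => x ^ i • b)
    have hS : S = Finset.univ := by
      refine Finset.eq_univ_of_card _ ?_
      rw [Finset.card_insert_of_notMem, Finset.card_image_of_injOn, Finset.card_range,
        ← Nat.card_eq_fintype_card, hα]
      · intro i hi j hj
        exact hinj i (Finset.mem_range.mp hi) j (Finset.mem_range.mp hj)
      · intro h
        obtain ⟨i, -, hi⟩ := Finset.mem_image.mp h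
        refine hb ?_
        have hba : b = a := by
          have h3 : (x ^ i)⁻¹ • a = a := MulAction.mem_stabilizer_iff.mp
            (inv_mem (pow_mem (MulAction.mem_stabilizer_iff.mpr hxa) i))
          rw [← h3, ← hi, inv_smul_smul]
        rw [hba, hxa]
    have hc' : c ∈ S := hS ▸ Finset.mem_univ c
    simpa [S] using hc'
  obtain ⟨j, -, hj⟩ : ∃ i < 11, x ^ i • b = w • b := by
    refine (hall (w • b)).resolve_left fun h => hb ?_
    have hba : b = a := by rw [← hwa] at h; exact MulAction.injective w h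
    rw [hba, hxa]
  have heq : w = x ^ j := eq_of_smul_eq_smul (α := α) fun c => by
    rcases hall c with rfl | ⟨i, -, rfl⟩
    · rw [hwa, MulAction.mem_stabilizer_iff.mp
        (pow_mem (MulAction.mem_stabilizer_iff.mpr hxa) j)]
    · rw [← mul_smul, ← (hc.pow_left i).eq, mul_smul, ← hj, ← mul_smul, ← mul_smul,
        ← pow_add, ← pow_add, add_comm]
  rw [heq]
  exact pow_mem (mem_zpowers x) j

end Cfsg.Agent.M12Graph71
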