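import Cfsg.Agent.M12Graph71.Search
import Cfsg.Agent.M12Uniq.CharsFacts
import Cfsg.Agent.M12Uniq.Local
import Cfsg.Agent.M12Uniq.OrderRestDefs
import Cfsg.Agent.M12Uniq.OrderRestInvol
import Cfsg.Agent.M12Uniq.Counts
import Cfsg.Agent.M12Uniq.CountsValues

/-!
# `M₁₂` has irreducible characters of degrees divisible by 55 and by 33
-/

set_option autoImplicit false
set_option linter.unusedSectionVars false

open scoped ComplexConjugate

namespace Cfsg.Agent.M12Graph71

open Subgroup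
open Cfsg.Agent.M12Uniq
open Cfsg.Agent.SmallGroups
open Cfsg.Agent.SmallGroups.SelfCent.Setup (deg deg_spec triv deg_triv)

universe u

private theorem check_block : blockSols qVals 10 [45, 54, 120, 144] = [[1, 0, -1, 0, -1]] ∧
    blockSols xVals 54 [45, 54, 120, 144] = [[-2, 0, 0, 3, 0]] := by
  decide +kernel

variable {G : Type u} [Group G] [Fintype G]

set_option maxHeartbeats 4000000 in
/-- The degrees 11, 55 and 66 or 99 outside the principal 11-block. -/
theorem exists_dvd_deg (hc : Counts G) :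
    (∃ χ : Cfsg.IrrCharacter G, 55 ∣ deg χ) ∧ (∃ χ : Cfsg.IrrCharacter G, 33 ∣ deg χ) := by
  classical
  have hG : Cfsg.IsM12 G := ⟨hc.simple, hc.card⟩
  obtain ⟨B, hds0⟩ := OrderFive.exists_block_degs hG
  obtain ⟨e, -, -, -⟩ := exists_eData_pair hc
  obtain ⟨q, vq, hq, hvq, hqv, hqn, hqd⟩ := exists_q hc
  obtain ⟨x, vx, vz, hx, hxC, hvx, hvz, hxv, hzv, hzb, hxn, hxd, hzn, hxz⟩ := exists_xz hc e
  have ho11 : ∀ {g : G} {n : ℕ}, orderOf g = n → n ≠ 11 → orderOf g ≠ 11 :=
    fun h hn h' => hn (h.symm.trans h')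
  obtain ⟨a, b, c, d, hcs⟩ : ∃ a b c d, B.cs = [a, b, c, d] :=
    match h : B.cs, B.length_cs with
    | [a, b, c, d], _ => ⟨a, b, c, d, rfl⟩
  have hds : B.cs.map deg = [deg a, deg b, deg c, deg d] := by rw [hcs]; rfl
  obtain ⟨da, db, dc, dd⟩ : deg a = 45 ∧ deg b = 54 ∧ deg c = 120 ∧ deg d = 144 := by
    simpa [hds0] using hds.symm.trans hds0
  have hde : deg B.f₁ = 16 ∧ deg B.f₂ = 16 := by
    rw [B.deg_f₁, B.deg_f₂, hds0]; decide
  have hnd := B.nodup
  rw [hcs] at hnd
  set L : Finset (Cfsg.IrrCharacter G) := [triv, B.f₁, B.f₂, a, b, c, d].toFinset with hL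
  set rest := Finset.univ \ L with hrest
  have hsplit : ∀ {R : Type} [AddCommGroup R] (A : Cfsg.IrrCharacter G → R), ∑ χ, A χ =
      A triv + A B.f₁ + A B.f₂ + A a + A b + A c + A d + ∑ χ ∈ rest, A χ := by
    intro R _ A
    rw [← Finset.sum_sdiff (Finset.subset_univ L), hL, List.sum_toFinset A hnd]
    simp only [List.map_cons, List.map_nil, List.sum_cons, List.sum_nil]
    abel
  have hmemrest : ∀ χ ∈ rest, χ ∉ triv :: B.f₁ :: B.f₂ :: B.cs := fun χ hχ => by
    rw [hrest, hL, Finset.mem_sdiff, List.mem_toFinset] at hχ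
    rw [hcs]
    exact hχ.2
  have htriv : vq triv = 1 ∧ vx triv = 1 := by
    refine ⟨?_, ?_⟩ <;> [have h := hvq triv; have h := hvx triv] <;>
      simp only [triv, Pi.one_apply] at h <;> exact_mod_cast h.symm
  have hf₂ : vq B.f₂ = vq B.f₁ ∧ vx B.f₂ = vx B.f₁ := by
    refine ⟨?_, ?_⟩ <;> apply Int.cast_injective (α := ℂ)
    · rw [← hvq, ← hvq]; exact B.eq_f q (ho11 hq (by norm_num))
    · rw [← hvx, ← hvx]; exact B.eq_f x (ho11 hx (by norm_num))
  have hne : ∀ χ, χ ∈ [B.f₁, B.f₂, a, b, c, d] → χ ≠ triv := fun χ hχ e' =>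
    (List.nodup_cons.mp hnd).1 (e' ▸ hχ)
  -- the block columns
  have hcol : ∀ {g : G} {v : Cfsg.IrrCharacter G → ℤ} {N : ℤ} {F : ℕ → List ℤ},
      orderOf g ≠ 11 → (∀ χ : Cfsg.IrrCharacter G, (χ : G → ℂ) g = v χ) → ∑ χ, v χ ^ 2 = N →
      (∀ χ, χ ≠ triv → v χ ∈ F (deg χ)) → v triv = 1 → v B.f₂ = v B.f₁ →
      [v B.f₁, v a, v b, v c, v d] ∈ blockSols F N (B.cs.map deg) := by
    intro g v N F hg hv hN hF h1 h2
    refine mem_blockSols ?_ ⟨?_, ?_⟩
    · rw [hds]
      refine List.Forall₂.cons ?_ (.cons ?_ (.cons ?_ (.cons ?_ (.cons ?_ .nil))))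
      · rw [← hds, ← B.deg_f₁]; exact hF _ (hne _ (by simp))
      all_goals exact hF _ (hne _ (by simp))
    · have h := hsplit fun χ => v χ ^ 2
      simp only [hN, h1, h2] at h
      have hpos : 0 ≤ ∑ χ ∈ rest, v χ ^ 2 := Finset.sum_nonneg fun χ _ => sq_nonneg _
      simp only [List.map_cons, List.map_nil, List.sum_cons, List.sum_nil]
      linarith
    · have h := B.rel g hg
      rw [hds] at h ⊢
      rw [hcs] at h
      simp only [List.map_cons, List.map_nil, List.sum_cons, List.sum_nil, hv] at h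
      simp only [List.zipWith_cons_cons, List.zipWith_nil_left, List.sum_cons, List.sum_nil]
      apply Int.cast_injective (α := ℂ)
      push_cast
      linear_combination h
  have hlq := hcol (ho11 hq (by norm_num)) hvq hqn (fun χ _ => hqv χ) htriv.1 hf₂.1
  have hlx := hcol (ho11 hx (by norm_num)) hvx hxn hxv htriv.2 hf₂.2
  rw [hds0, check_block.1] at hlq
  rw [hds0, check_block.2] at hlx
  simp only [List.mem_cons, List.not_mem_nil, or_false, List.cons.injEq, and_true] at hlq hlx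
  obtain ⟨qf, qa, qb, qc, qd⟩ := hlq
  obtain ⟨xf, xa, xb, xc, xd⟩ := hlx
  have hsqdeg : ∑ χ : Cfsg.IrrCharacter G, (deg χ : ℤ) ^ 2 = 95040 := by
    have h := CharCore.sum_degree_sq (G := G)
    simp only [(deg_spec _).2.2, hc.card] at h
    exact_mod_cast h
  -- the characters outside the block
  have hk : ∀ χ ∈ rest, ∃ k, deg χ = 11 * k ∧ 1 ≤ k ∧ k ≤ 28 ∧ k ∣ 8640 := by
    intro χ hχ
    obtain ⟨k, hk⟩ := B.outside χ (hmemrest χ hχ)
    have hpos := (deg_spec χ).1
    have hdvd : deg χ ∣ 95040 := hc.card ▸ (deg_spec χ).2.1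
    have hle : (deg χ : ℤ) ^ 2 ≤ 95040 := hsqdeg ▸
      Finset.single_le_sum (f := fun y => (deg y : ℤ) ^ 2) (fun y _ => sq_nonneg _)
        (Finset.mem_univ χ)
    refine ⟨k, hk, by omega, ?_, ?_⟩
    · by_contra h
      have : (319 : ℤ) ≤ deg χ := by omega
      nlinarith
    · rw [hk, show (95040 : ℕ) = 11 * 8640 by norm_num] at hdvd
      exact Nat.dvd_of_mul_dvd_mul_left (by norm_num) hdvd
  choose! k hkd hk1 hk28 hk8 using hk
  set item : Cfsg.IrrCharacter G → Item := fun χ => (k χ, vq χ, vx χ) with hitem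
  set M : Multiset Item := rest.val.map item with hM
  have hrne : ∀ χ ∈ rest, χ ≠ triv := fun χ hχ e' =>
    hmemrest χ hχ (List.mem_cons.mpr (Or.inl e'))
  have hMitems : ∀ χ ∈ rest, item χ ∈ allItems := fun χ hχ =>
    mem_allItems (hk1 χ hχ) (hk28 χ hχ) (hk8 χ hχ) (hkd χ hχ ▸ hqv χ)
      (hkd χ hχ ▸ hxv χ (hrne χ hχ))
  have hM8 : 8 ≤ 0 + M.card := by
    rw [zero_add, hM, Multiset.card_map, ← Finset.card_def, hrest, Finset.card_sdiff_of_subset
      (Finset.subset_univ _), Finset.card_univ]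
    have := fifteen_le hc e
    have : L.card ≤ 7 := (List.toFinset_card_of_nodup hnd).le
    omega
  have hisum : ∀ {α : Type} [AddCommMonoid α] (F : Item → α),
      isum F M = ∑ χ ∈ rest, F (item χ) := fun F => by
    rw [isum, hM, Multiset.map_map]; rfl
  have p1 := hsplit fun χ => (deg χ : ℤ) ^ 2
  have p2 := hsplit fun χ => vq χ ^ 2
  have p3 := hsplit fun χ => vx χ ^ 2
  have p4 := hsplit fun χ => (deg χ : ℤ) * vq χ
  have p5 := hsplit fun χ => (deg χ : ℤ) * vx χ
  simp only [hsqdeg, hqn, hxn, hqd, hxd, htriv, hf₂, deg_triv, hde, da, db, dc, dd, qf, qa, qb,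
    qc, qd, xf, xa, xb, xc, xd] at p1 p2 p3 p4 p5
  norm_num at p1 p2 p3 p4 p5
  have e1 : isum (fun t => t.1 * t.1) M = 450 := by
    have : ((isum (fun t => t.1 * t.1) M : ℕ) : ℤ) * 121 = ∑ χ ∈ rest, (deg χ : ℤ) ^ 2 := by
      rw [hisum, Nat.cast_sum, Finset.sum_mul]
      refine Finset.sum_congr rfl fun χ hχ => ?_
      rw [hkd χ hχ]; simp only [hitem]; push_cast; ring
    omega
  have e2 : isum (fun t => t.2.1.natAbs * t.2.1.natAbs) M = 5 := by
    have : ((isum (fun t => t.2.1.natAbs * t.2.1.natAbs) M : ℕ) : ℤ) = ∑ χ ∈ rest, vq χ ^ 2 := by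
      rw [hisum, Nat.cast_sum]
      refine Finset.sum_congr rfl fun χ hχ => ?_
      simp only [hitem]
      rw [Nat.cast_mul, Int.natAbs_mul_self', sq]
    omega
  have e3 : isum (fun t => t.2.2.natAbs * t.2.2.natAbs) M = 36 := by
    have : ((isum (fun t => t.2.2.natAbs * t.2.2.natAbs) M : ℕ) : ℤ) = ∑ χ ∈ rest, vx χ ^ 2 := by
      rw [hisum, Nat.cast_sum]
      refine Finset.sum_congr rfl fun χ hχ => ?_
      simp only [hitem]
      rw [Nat.cast_mul, Int.natAbs_mul_self', sq]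
    omega
  have e4 : isum (fun t => (t.1 : ℤ) * t.2.1) M = 15 := by
    have : isum (fun t => (t.1 : ℤ) * t.2.1) M * 11 = ∑ χ ∈ rest, (deg χ : ℤ) * vq χ := by
      rw [hisum, Finset.sum_mul]
      refine Finset.sum_congr rfl fun χ hχ => ?_
      rw [hkd χ hχ]; simp only [hitem]; push_cast; ring
    omega
  have e5 : isum (fun t => (t.1 : ℤ) * t.2.2) M = -27 := by
    have : isum (fun t => (t.1 : ℤ) * t.2.2) M * 11 = ∑ χ ∈ rest, (deg χ : ℤ) * vx χ := by
      rw [hisum, Finset.sum_mul]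
      refine Finset.sum_congr rfl fun χ hχ => ?_
      rw [hkd χ hχ]; simp only [hitem]; push_cast; ring
    omega
  constructor
  · by_contra hno
    push_neg at hno
    have h := srch_complete (fun _ => true) itemsNoFive pos_noFive M (fun t ht => by
      obtain ⟨χ, hχ, rfl⟩ := Multiset.mem_map.mp ht
      refine List.mem_filter.mpr ⟨hMitems χ hχ, ?_⟩
      simp only [hitem, Bool.not_eq_true', decide_eq_false_iff_not]
      exact fun h5 => hno χ (by rw [hkd χ hχ]; exact Nat.mul_dvd_mul_left 11 h5)) 0 hM8 0 rfl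
    rw [e1, e2, e3, e4, e5, srch_noFive] at h
    exact Bool.noConfusion h
  · by_contra hno
    push_neg at hno
    have h21 : ∀ χ ∈ rest, k χ ≤ 21 := fun χ hχ => by
      have h1 : k χ * k χ ≤ 450 := by
        rw [← e1, hisum]
        exact Finset.single_le_sum (f := fun y => (item y).1 * (item y).1)
          (fun y _ => Nat.zero_le _) hχ
      nlinarith
    have hmem : ∀ χ ∈ rest, item χ ∈ itemsNoThree := fun χ hχ => by
      refine List.mem_filter.mpr ⟨hMitems χ hχ, ?_⟩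
      simp only [hitem, Bool.and_eq_true, Bool.not_eq_true', decide_eq_false_iff_not,
        decide_eq_true_eq]
      exact ⟨fun h3 => hno χ (by rw [hkd χ hχ]; exact Nat.mul_dvd_mul_left 11 h3), h21 χ hχ⟩
    -- the class multiplication coefficient
    have hcount := SelfCent.card_pairs_mul_card x q
    rw [index_centralizer hc hxC (k := 1760) (by norm_num) (by norm_num), hc.card] at hcount
    simp only [hvx, hvq, map_intCast, (deg_spec _).2.2] at hcount
    rw [hsplit] at hcount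
    simp only [htriv, hf₂, deg_triv, hde, da, db, dc, dd, qf, qa, qb, qc, qd, xf, xa, xb, xc,
      xd] at hcount
    have hT : (∑ χ ∈ rest, (vx χ : ℂ) ^ 2 / (deg χ : ℂ) * (vq χ : ℂ)) * 880 =
        ((isum weight M : ℤ) : ℂ) := by
      rw [hisum, Int.cast_sum, Finset.sum_mul]
      refine Finset.sum_congr rfl fun χ hχ => ?_
      have h80 : k χ ∣ 80 := (pos_noThree _ (hmem χ hχ)).2
      have hk0 : (k χ : ℂ) ≠ 0 := Nat.cast_ne_zero.mpr (by have := hk1 χ hχ; omega)
      obtain ⟨m, hm⟩ := h80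
      have hm' : (80 : ℂ) = (k χ : ℂ) * (m : ℂ) := by exact_mod_cast hm
      simp only [hitem, weight]
      rw [hm, Nat.mul_div_cancel_left m (hk1 χ hχ), hkd χ hχ]
      push_cast
      field_simp
      rw [show (880 : ℂ) = 11 * 80 by norm_num, hm']
      ring
    set N := Nat.card {p : G × G // IsConj x p.1 ∧ IsConj x p.2 ∧ p.1 * p.2 = q}
    have hN : (27 : ℤ) * (N : ℤ) = isum weight M + 1320 := by
      apply Int.cast_injective (α := ℂ)
      push_cast
      rw [← hT]
      norm_num at hcount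
      linear_combination hcount / 3520
    have h := srch_complete okT itemsNoThree (fun t ht => (pos_noThree t ht).1) M (fun t ht => by
      obtain ⟨χ, hχ, rfl⟩ := Multiset.mem_map.mp ht
      exact hmem χ hχ) 0 hM8 0 (by
        simp only [okT, beq_iff_eq, zero_add]
        omega)
    rw [e1, e2, e3, e4, e5, srch_noThree] at h
    exact Bool.noConfusion h

/-- The class data of `M₁₂` itself. -/
theorem counts_M12 : Counts ↥Cfsg.Spor.M12 :=
  counts_of_pre (pre_of_nse Golay.card_M12 values_M12)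

/-- `M₁₂` has characters of degrees divisible by 55 and by 33. -/
theorem exists_dvd_charDegree_M12 :
    (∃ χ : Cfsg.IrrCharacter ↥Cfsg.Spor.M12, 55 ∣ Cfsg.charDegree (χ : ↥Cfsg.Spor.M12 → ℂ)) ∧
      ∃ χ : Cfsg.IrrCharacter ↥Cfsg.Spor.M12, 33 ∣ Cfsg.charDegree (χ : ↥Cfsg.Spor.M12 → ℂ) := by
  classical
  have := Fintype.ofFinite ↥Cfsg.Spor.M12
  obtain ⟨⟨χ, hχ⟩, ψ, hψ⟩ := exists_dvd_deg counts_M12
  exact ⟨⟨χ, by rwa [charDegree_eq_deg]⟩, ψ, by rwa [charDegree_eq_deg]⟩

end Cfsg.Agent.M12Graph71
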