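import Cfsg.Agent.M12Graph71.Ten

/-!
# Simple groups with order divisible by 11 and dividing 95040
-/

set_option autoImplicit false
set_option linter.unusedSectionVars false

namespace Cfsg.Agent.M12Graph71

open Subgroup Cfsg.Agent.SmallGroups SmallGroups.SelfCent

theorem n_list : ∀ n ∈ List.range 1729, n ∣ 1728 → n % 11 = 1 → n ∈ [1, 12, 144, 1728] := by
  decide +kernel

theorem k_list : ∀ k ∈ List.range 13, k ∣ 12 → k ∈ [1, 2, 3, 4, 6, 12] := by decide +kernel

/-- A group of order 2, 3, 4, 6 or 12 has a nontrivial normal Sylow subgroup, the prime being 3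
unless the order is 2, 4 or 12. -/
theorem exists_normal_sylow {K : Type*} [Group K] [Finite K]
    (h : Nat.card K ∈ [2, 3, 4, 6, 12]) :
    ∃ r : ℕ, (r = 2 ∨ r = 3) ∧ r.Prime ∧ (Nat.card K = 3 ∨ Nat.card K = 6 → r = 3) ∧
      ∃ Q : Sylow r K, (Q : Subgroup K).Normal ∧ (Q : Subgroup K) ≠ ⊥ := by
  have : Fact (Nat.Prime 2) := ⟨Nat.prime_two⟩
  have : Fact (Nat.Prime 3) := ⟨Nat.prime_three⟩
  simp only [List.mem_cons, List.not_mem_nil, or_false] at h
  by_cases h3 : 3 ∣ Nat.card K
  · have hn := card_sylow_mem_list (G := K) (p := 3) (a := 1) (m := Nat.card K / 3)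
      (by omega) (by omega)
    obtain ⟨Q⟩ := (inferInstance : Nonempty (Sylow 3 K))
    by_cases h1 : Nat.card (Sylow 3 K) = 1
    · exact ⟨3, Or.inr rfl, Nat.prime_three, fun _ => rfl, Q,
        normal_of_card_sylow_eq_one h1 Q, Q.ne_bot_of_dvd_card h3⟩
    -- four Sylow subgroups of order three in a group of order twelve
    have h12 : Nat.card K = 12 := by
      rw [Finset.mem_filter, Nat.mem_divisors] at hn
      obtain ⟨⟨hd, -⟩, hmod⟩ := hn
      have := Nat.le_of_dvd (by omega) hd
      rcases h with h | h | h | h | h <;> omega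
    rw [h12] at hn
    have h4 : Nat.card (Sylow 3 K) = 4 := by
      have key : ∀ d ∈ ((12 / 3 : ℕ).divisors.filter fun d => d % 3 = 1), d = 1 ∨ d = 4 := by decide
      exact (key _ hn).resolve_left h1
    have hQ3 := card_sylow_eq (G := K) (p := 3) (a := 1) (m := 4) (by rw [h12]; norm_num)
      (by norm_num) Q
    have hN := normalizer_conj_eq_card Q h4 (k := 3) (by rw [h12])
    have hle : (Q : Subgroup K) ≤ normalizer ((Q : Subgroup K) : Set K) := le_normalizer
    have heq : (Q : Subgroup K) = normalizer ((Q : Subgroup K) : Set K) :=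
      eq_of_le_of_card_ge hle (by rw [hQ3, hN]; norm_num)
    have hcyc : IsCyclic (Q : Subgroup K) := isCyclic_of_prime_card (p := 3) (by rw [hQ3]; norm_num)
    have hc : normalizer ((Q : Subgroup K) : Set K) ≤ centralizer ((Q : Subgroup K) : Set K) :=
      heq ▸ le_centralizer _
    have hk := MonoidHom.ker_transferSylow_isComplement' Q hc
    have hk4 : Nat.card (MonoidHom.transferSylow Q hc).ker = 4 := by
      have := hk.card_mul
      rw [hQ3, h12] at this
      omega
    refine ⟨2, Or.inl rfl, Nat.prime_two, fun hh => by omega,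
      (IsPGroup.of_card (p := 2) (n := 2) (by rw [hk4]; norm_num)).toSylow ?_, ?_, ?_⟩
    · intro hdvd
      have := Subgroup.card_mul_index (MonoidHom.transferSylow Q hc).ker
      rw [hk4, h12] at this
      omega
    · exact (MonoidHom.transferSylow Q hc).normal_ker
    · intro hb
      have hb' : (MonoidHom.transferSylow Q hc).ker = ⊥ := hb
      rw [hb', card_bot] at hk4
      omega
  · obtain ⟨Q⟩ := (inferInstance : Nonempty (Sylow 2 K))
    have h2 : IsPGroup 2 K := by
      rcases h with h | h | h | h | h <;> rw [h] at h3 <;> norm_num at h3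
      · exact IsPGroup.of_card (n := 1) (by rw [h]; norm_num)
      · exact IsPGroup.of_card (n := 2) (by rw [h]; norm_num)
    have hQ : (Q : Subgroup K) = ⊤ := by
      refine eq_top_of_card_eq _ ?_
      obtain ⟨n, hn⟩ := IsPGroup.iff_card.mp h2
      rw [Q.card_eq_multiplicity, hn, Nat.prime_two.factorization_pow]
      simp
    refine ⟨2, Or.inl rfl, Nat.prime_two, fun hh => by omega, Q, hQ ▸ inferInstance, ?_⟩
    exact Q.ne_bot_of_dvd_card (by omega)

variable {T : Type*} [Group T] [Finite T] [IsSimpleGroup T]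

/-- The possible orders. -/
theorem card_cases (hG : ¬ IsMulCommutative T) (hdvd : Nat.card T ∣ 95040)
    (h11 : 11 ∣ Nat.card T) :
    Nat.card T = 660 ∨ Nat.card T = 7920 ∨ Nat.card T = 95040 := by
  classical
  have := Fintype.ofFinite T
  have : Fact (Nat.Prime 11) := fact11
  obtain ⟨m, hm⟩ := h11
  have hm' : m ∣ 8640 :=
    Nat.dvd_of_mul_dvd_mul_left (by norm_num : 0 < 11) (hm ▸ hdvd : 11 * m ∣ 11 * 8640)
  have hm11 : ¬ 11 ∣ m := fun h => by
    have := h.trans hm'
    norm_num at this
  obtain ⟨P⟩ := (inferInstance : Nonempty (Sylow 11 T))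
  have hP : Nat.card (P : Subgroup T) = 11 := by
    rw [card_sylow_eq (a := 1) (by rw [hm, pow_one]) hm11 P, pow_one]
  obtain ⟨⟨z, hzP⟩, hzo⟩ := exists_prime_orderOf_dvd_card' (G := (P : Subgroup T)) 11 (by rw [hP])
  rw [Subgroup.orderOf_mk] at hzo
  have hzP' : zpowers z = (P : Subgroup T) :=
    eq_of_le_of_card_ge (zpowers_le.mpr hzP) (by rw [Nat.card_zpowers, hzo, hP])
  have hidx : ¬ 11 ∣ (zpowers z).index := hzP' ▸ P.not_dvd_index
  obtain ⟨s, hs⟩ := BlocksCore.CyclicCount.exists_setup hzo hidx
  subst hs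
  set e := Nat.card s.auto with he
  set K := Nat.card s.K with hKdef
  have hKpos : 0 < K := Nat.card_pos
  set n := Nat.card (Sylow 11 T) with hn
  have hcardT : e * (11 * K) * n = Nat.card T := by
    rw [← card_normalizer_mul P, ← hzP', s.card_normalizer]
  have he10 : e ∣ 10 := by
    have := card_subgroup_dvd_card s.auto
    rwa [Nat.card_eq_fintype_card (α := (ZMod 11)ˣ), ZMod.card_units] at this
  have hne : e * K * n ∣ 8640 := by
    refine Nat.dvd_of_mul_dvd_mul_left (by norm_num : 0 < 11) ?_
    rw [show 11 * (e * K * n) = e * (11 * K) * n by ring, hcardT]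
    exact hdvd
  have hn1 : n % 11 = 1 := by
    have h : n % 11 = 1 % 11 := card_sylow_modEq_one 11 T
    omega
  have hnne : n ≠ 1 := card_sylow_ne_one hG ⟨m, hm⟩
  have he1 : e ≠ 1 := by
    intro h
    refine not_normalizer_le_centralizer hG (⟨m, hm⟩ : 11 ∣ Nat.card T) P ?_
    intro g hg
    rw [← hzP'] at hg ⊢
    have h1 := Setup.pow_auto_comm s hg
    rw [← he, h, pow_one] at h1
    rw [mem_centralizer_iff]
    intro y hy
    obtain ⟨i, rfl⟩ := mem_zpowers_iff.mp hy
    exact (h1.zpow_right i).eq.symm
  have he' : e = 2 ∨ e = 5 ∨ e = 10 := by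
    have key : ∀ d ∈ List.range 11, d ∣ 10 → d = 1 ∨ d = 2 ∨ d = 5 ∨ d = 10 := by decide
    exact (key e (List.mem_range.mpr (by have := Nat.le_of_dvd (by norm_num) he10; omega))
      he10).resolve_left he1
  by_cases he2 : e = 2
  · -- a character of degree ten
    exfalso
    obtain ⟨χ, hd, hval⟩ := exists_degree_ten hG s hidx he2 hdvd
    obtain ⟨f, hf⟩ := exists_val χ s.orderOf_z (v := (-1 : ℤ)) fun k hk hk' => by
      simpa using hval 1 (one_mem _) k hk hk'
    have hf0 : f = 0 := by have := hf.eq; omega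
    have hχ1 : χ ≠ Setup.triv := fun h => by rw [h, Setup.deg_triv] at hd; norm_num at hd
    have hK : s.K = ⊥ := by
      refine (eq_bot_iff_forall _).mpr fun w hw => ?_
      by_contra hw1
      exact value_ne_deg hχ1 hw1 (hf.fixfree hf0 w (hval w hw))
    obtain ⟨u, hu, hinv⟩ := Setup.exists_inverting s hK (by norm_num) he2
    have h := hinv 1
    rw [Setup.zp_neg, s.zp_one] at h
    obtain ⟨t, ht, ht1, ht2, -⟩ := hf.inv u hu h
    obtain ⟨nn, hnn, -, -, h4⟩ := exists_int_value_four hG χ hu
    rw [ht] at hnn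
    have : t = nn := by exact_mod_cast hnn
    omega
  have h5 : 5 ∣ e := by rcases he' with h | h | h <;> omega
  have hn1728 : n ∣ 1728 := by
    refine Nat.dvd_of_mul_dvd_mul_left (by norm_num : 0 < 5) ?_
    exact dvd_trans (Nat.mul_dvd_mul (h5.trans (dvd_mul_right e K)) dvd_rfl) hne
  have hnl := n_list n (List.mem_range.mpr (by have := Nat.le_of_dvd (by norm_num) hn1728; omega))
    hn1728 hn1
  simp only [List.mem_cons, List.not_mem_nil, or_false] at hnl
  rcases hnl with h | h | h | h
  · exact absurd h hnne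
  · -- twelve Sylow subgroups
    have hK : s.K = ⊥ := by
      refine (eq_bot_iff_forall _).mpr fun w hw => ?_
      have hP1 : normalizer ((P : Subgroup T) : Set T) ≠ ⊤ := fun htop => hnne (by
        rw [hn, show Nat.card (Sylow 11 T) = (normalizer ((P : Subgroup T) : Set T)).index from
          P.card_eq_index_normalizer, htop, index_top])
      have : FaithfulSMul T (T ⧸ normalizer ((P : Subgroup T) : Set T)) :=
        ⟨fun h => toPerm_injective hP1 (Equiv.ext h)⟩
      have hfixc : ∀ {y : T}, y ∈ normalizer ((P : Subgroup T) : Set T) →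
          y • ((1 : T) : T ⧸ normalizer ((P : Subgroup T) : Set T)) = ((1 : T) : T ⧸ _) :=
        fun {y} hy => by
          rw [MulAction.Quotient.smul_coe, smul_eq_mul, mul_one, QuotientGroup.eq]
          simpa using inv_mem hy
      have hwN : w ∈ normalizer ((P : Subgroup T) : Set T) := by
        rw [← hzP']
        refine centralizer_le_normalizer (zpowers s.z : Set T) ?_
        intro y hy
        obtain ⟨i, rfl⟩ := mem_zpowers_iff.mp hy
        exact ((show Commute s.z _ from (s.comm _ hw).symm).zpow_left i).eq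
      have hmem := mem_zpowers_of_twelve (α := T ⧸ normalizer ((P : Subgroup T) : Set T))
        (by rw [← index_eq_card, ← show Nat.card (Sylow 11 T) =
          (normalizer ((P : Subgroup T) : Set T)).index from P.card_eq_index_normalizer, ← hn, h]) s.orderOf_z _
        (hfixc (le_normalizer hzP)) (hfixc hwN) (s.comm w hw).symm
      obtain ⟨i, hi⟩ := ((isOfFinOrder_of_finite s.z).mem_powers_iff_mem_zpowers).mpr hmem
      simp only at hi
      rw [← hi, ← s.zp_natCast] at hw ⊢
      rw [(s.zp_mem_K_iff _).mp hw, s.zp_zero]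
    have hK1 : K = 1 := by rw [hKdef, hK, card_bot]
    rcases he' with h' | h' | h'
    · omega
    · left; rw [← hcardT, h', hK1, h]
    · exfalso
      exact false_of_bot hG hdvd s hidx h' hK (Or.inl (by rw [← hcardT, h', hK1, h]))
  · -- 144 Sylow subgroups
    have hK12 : e * K ∣ 60 := by
      refine Nat.dvd_of_mul_dvd_mul_right (by norm_num : 0 < 144) ?_
      rw [h] at hne
      exact hne.trans (by norm_num)
    by_cases hK1 : K = 1
    · rcases he' with h' | h' | h'
      · omega
      · right; left; rw [← hcardT, h', hK1, h]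
      · exfalso
        exact false_of_bot hG hdvd s hidx h' (Subgroup.eq_bot_of_card_eq _ hK1)
          (Or.inr (by rw [← hcardT, h', hK1, h]))
    exfalso
    have hKd : K ∣ 12 ∧ (e = 10 → K ∣ 6) := by
      refine ⟨?_, fun h' => ?_⟩
      · refine Nat.dvd_of_mul_dvd_mul_left (by norm_num : 0 < 5) ?_
        exact (Nat.mul_dvd_mul_right h5 K).trans hK12
      · rw [h'] at hK12
        exact Nat.dvd_of_mul_dvd_mul_left (by norm_num : 0 < 10) hK12
    have hKl := k_list K (List.mem_range.mpr (by have := Nat.le_of_dvd (by norm_num) hKd.1; omega))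
      hKd.1
    simp only [List.mem_cons, List.not_mem_nil, or_false] at hKl
    by_cases hcase : e = 10 ∧ K = 2
    · exact false_of_two hG hdvd s P hzP'.symm hcase.1 h hcase.2
    obtain ⟨r, hr, hrp, hr3, Q, hQn, hQb⟩ := exists_normal_sylow (K := s.K) (by
      simp only [List.mem_cons, List.not_mem_nil, or_false]
      omega)
    have : Fact r.Prime := ⟨hrp⟩
    have hre : ¬ r ∣ e := by
      rcases he' with h' | h' | h'
      · omega
      · rw [h']; rcases hr with rfl | rfl <;> norm_num
      · have hK6 := hKd.2 h'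
        have : K = 3 ∨ K = 6 := by
          rcases hKl with h'' | h'' | h'' | h'' | h'' | h'' <;> rw [h''] at hK6 <;>
            norm_num at hK6 <;> omega
        rw [h', hr3 this]
        norm_num
    have hWN : normalizer ((zpowers s.z : Subgroup T) : Set T) ≤
        normalizer (((Q : Subgroup s.K).map s.K.subtype : Subgroup T) : Set T) := by
      intro g hg
      obtain ⟨k, hk, hgk⟩ := Setup.mem_normalizer_conj s hg
      have hg' : g * s.zp 1 * g⁻¹ = s.zp k := by rw [s.zp_one]; exact hgk
      have hQu : Subsingleton (Sylow r s.K) := by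
        have := Sylow.unique_of_normal Q hQn
        exact inferInstance
      have hin : ∀ x ∈ (Q : Subgroup s.K).map s.K.subtype,
          g * x * g⁻¹ ∈ (Q : Subgroup s.K).map s.K.subtype := by
        rintro _ ⟨⟨x, hxK⟩, hxQ, rfl⟩
        have hmem := s.conj_mem_K one_ne_zero hg' hxK
        refine ⟨⟨_, hmem⟩, ?_, rfl⟩
        obtain ⟨j, hj⟩ := IsPGroup.iff_orderOf.mp Q.2 ⟨⟨x, hxK⟩, hxQ⟩
        have hp : IsPGroup r (zpowers (⟨_, hmem⟩ : s.K)) := by
          refine IsPGroup.of_card (n := j) ?_
          rw [Nat.card_zpowers, Subgroup.orderOf_mk]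
          rw [Subgroup.orderOf_mk, Subgroup.orderOf_mk] at hj
          rw [← hj]
          exact MulEquiv.orderOf_eq (MulAut.conj g) x
        obtain ⟨R, hR⟩ := hp.exists_le_sylow
        rw [Subsingleton.elim R Q] at hR
        exact hR (mem_zpowers _)
      have hle : ((Q : Subgroup s.K).map s.K.subtype).map (MulAut.conj g).toMonoidHom ≤
          (Q : Subgroup s.K).map s.K.subtype := by
        rintro _ ⟨x, hx, rfl⟩
        exact hin x hx
      have heq := eq_of_le_of_card_ge hle (le_of_eq (Nat.card_congr
        (((Q : Subgroup s.K).map s.K.subtype).equivMapOfInjective _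
          (MulAut.conj g).injective).toEquiv))
      rw [mem_normalizer_iff]
      intro x
      refine ⟨fun hx => hin x hx, fun hx => ?_⟩
      rw [← heq] at hx
      obtain ⟨x', hx', hxx⟩ := hx
      rwa [(MulAut.conj g).injective hxx] at hx'
    obtain ⟨w, hw, g, hgN, hgc⟩ := exists_moving hG hdvd s P hzP'.symm h hr
      ((Q : Subgroup s.K).map s.K.subtype)
      (fun hb => hQb ((map_eq_bot_iff_of_injective _ s.K.subtype_injective).mp hb))
      (map_subtype_le _) (Q.2.map _) hWN
    obtain ⟨j, hj⟩ := IsPGroup.iff_orderOf.mp (Q.2.map s.K.subtype) ⟨w, hw⟩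
    rw [Subgroup.orderOf_mk] at hj
    refine hgc (Setup.comm_of_coprime s hrp hre (j := j) ?_ hgN)
    rw [← hj]
    exact MulEquiv.orderOf_eq (MulAut.conj g) w
  · -- 1728 Sylow subgroups
    have h5K : e * K ∣ 5 := by
      refine Nat.dvd_of_mul_dvd_mul_right (by norm_num : 0 < 1728) ?_
      rw [h] at hne
      exact hne.trans (by norm_num)
    rcases (Nat.dvd_prime (by norm_num)).mp h5K with h' | h'
    · exfalso
      have := Nat.eq_one_of_mul_eq_one_right h'
      omega
    right; right
    have he5 : e = 5 := by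
      rcases he' with h'' | h'' | h''
      · omega
      · exact h''
      · rw [h''] at h'; omega
    rw [he5] at h'
    rw [← hcardT, he5, show K = 1 by omega, h]

end Cfsg.Agent.M12Graph71
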