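import Cfsg.Agent.CharDeep.Deg.Basic
import Cfsg.Agent.Lib.SmallGroups.Basic
import Mathlib.GroupTheory.SpecificGroups.Alternating

/-!
# A group of order 12 with a character of degree 3
-/

set_option autoImplicit false

namespace Cfsg.Agent.M12Graph71

open Subgroup Cfsg.Agent.SmallGroups

theorem nonempty_alt_four {R : Type*} [Group R] [Finite R] (hR : Nat.card R = 12)
    (χ : Cfsg.IrrCharacter R) (hχ : 3 ∣ Cfsg.charDegree (χ : R → ℂ)) :
    Nonempty (R ≃* alternatingGroup (Fin 4)) := by
  classical
  have : Fact (Nat.Prime 3) := ⟨Nat.prime_three⟩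
  obtain ⟨Q⟩ := (inferInstance : Nonempty (Sylow 3 R))
  have hQ3 : Nat.card (Q : Subgroup R) = 3 := by
    rw [card_sylow_eq (a := 1) (m := 4) (by rw [hR]; norm_num) (by norm_num) Q, pow_one]
  have hcyc : IsCyclic (Q : Subgroup R) := isCyclic_of_prime_card (p := 3) hQ3
  have hn := card_sylow_mem_list (G := R) (p := 3) (a := 1) (m := 4) (by rw [hR]; norm_num)
    (by norm_num)
  have key : ∀ d ∈ ((4 : ℕ).divisors.filter fun d => d % 3 = 1), d = 1 ∨ d = 4 := by decide
  rcases key _ hn with h1 | h4
  · -- abelian normal subgroup of index at most two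
    exfalso
    have := normal_of_card_sylow_eq_one h1 Q
    have hle : (Q : Subgroup R) ≤ centralizer ((Q : Subgroup R) : Set R) := le_centralizer _
    set C := centralizer ((Q : Subgroup R) : Set R) with hC
    have hCn : C.Normal := by rw [hC]; infer_instance
    have hidx : C.index ∣ 2 := by
      have h := relIndex_centralizer_dvd_of_prime (Q : Subgroup R) (p := 3) hQ3
      rwa [← hC, normalizer_eq_top, relIndex_top_right] at h
    have hab : ∀ a ∈ C, ∀ b ∈ C, a * b = b * a := by
      have hcC : Nat.card C * C.index = 12 := by rw [card_mul_index, hR]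
      set Z := (Q : Subgroup R).subgroupOf C with hZ
      have hZc : Z ≤ center C := by
        intro x hx
        rw [mem_center_iff]
        intro y
        exact Subtype.ext ((mem_centralizer_iff.mp y.2 x.1 hx).symm)
      have hZi : Z.index ∣ 4 := by
        have h : (Q : Subgroup R).relIndex C * C.index = 4 := by
          rw [relIndex_mul_index hle, index_sylow_eq (a := 1) (m := 4) (by rw [hR]; norm_num)
            (by norm_num) Q]
        exact ⟨C.index, h.symm⟩
      have hcomm : ∀ a b : C, a * b = b * a := by
        have : Fact (Nat.Prime 2) := ⟨Nat.prime_two⟩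
        have hci : (center C).index ∣ 4 := (index_dvd_of_le hZc).trans hZi
        have key2 : ∀ d ∈ (4 : ℕ).divisors, ∃ j, j ≤ 2 ∧ d = 2 ^ j := by decide
        obtain ⟨j, hj, hj'⟩ := key2 _ (Nat.mem_divisors.mpr ⟨hci, by norm_num⟩)
        have hQb : IsPGroup 2 (C ⧸ center C) := IsPGroup.of_card (n := j)
          (by rw [← index_eq_card, hj'])
        intro a b
        -- the Sylow 2-subgroup of `C` has order at most four
        obtain ⟨S⟩ := (inferInstance : Nonempty (Sylow 2 C))
        have hS : IsMulCommutative (S : Subgroup C) := by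
          obtain ⟨n, hn'⟩ := IsPGroup.iff_card.mp S.2
          have hdvd : 2 ^ n ∣ 12 := hn' ▸ (card_subgroup_dvd_card _).trans
            ((card_subgroup_dvd_card C).trans hR.dvd)
          have : n ≤ 2 := by
            by_contra h
            have := (pow_dvd_pow 2 (by omega : 3 ≤ n)).trans hdvd
            norm_num at this
          rcases (show n ≤ 1 ∨ n = 2 by omega) with h | h
          · have : IsCyclic (S : Subgroup C) := isCyclic_of_card_dvd_prime (p := 2)
              (hn' ▸ ((pow_dvd_pow 2 h).trans (by norm_num)))
            infer_instance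
          · exact IsPGroup.isMulCommutative_of_card_eq_prime_sq (p := 2) (hn'.trans (by rw [h]))
        have htop : center C ⊔ (S : Subgroup C) = ⊤ := by
          refine index_eq_one.mp ?_
          have h1 : (center C ⊔ (S : Subgroup C)).index ∣ 2 ^ j :=
            (index_dvd_of_le le_sup_left).trans hj'.dvd
          have h2 : (center C ⊔ (S : Subgroup C)).index ∣ (S : Subgroup C).index :=
            index_dvd_of_le le_sup_right
          by_contra hne
          obtain ⟨q, hq, hqd⟩ := Nat.exists_prime_and_dvd hne
          have hq2 : q = 2 := (Nat.prime_dvd_prime_iff_eq hq Nat.prime_two).mp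
            (hq.dvd_of_dvd_pow (hqd.trans h1))
          exact S.not_dvd_index ((hq2 ▸ hqd).trans h2)
        have hmem : ∀ x : C, ∃ c ∈ center C, ∃ s ∈ (S : Subgroup C), c * s = x := fun x => by
          obtain ⟨c, hc, s, hs, he⟩ := (mem_sup_of_normal_left).mp (htop ▸ mem_top x)
          exact ⟨c, hc, s, hs, he⟩
        obtain ⟨c, hc, s, hs, rfl⟩ := hmem a
        obtain ⟨c', hc', s', hs', rfl⟩ := hmem b
        have hss : s * s' = s' * s := congrArg Subtype.val
          (isMulCommutative_iff.mp hS ⟨s, hs⟩ ⟨s', hs'⟩)
        have hcz := mem_center_iff.mp hc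
        have hcz' := mem_center_iff.mp hc'
        calc c * s * (c' * s') = c * (s * c') * s' := by group
          _ = c * (c' * s) * s' := by rw [hcz' s]
          _ = (c * c') * (s * s') := by group
          _ = (c' * c) * (s' * s) := by rw [hss, (hcz c').symm]
          _ = c' * (c * s') * s := by group
          _ = c' * (s' * c) * s := by rw [hcz s']
          _ = c' * s' * (c * s) := by group
      intro a ha b hb
      exact congrArg Subtype.val (hcomm ⟨a, ha⟩ ⟨b, hb⟩)
    have := (hχ.trans (CharDeep.Deg.degree_dvd_index χ C hab)).trans hidx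
    norm_num at this
  · -- four Sylow subgroups
    have hN : Nat.card (normalizer ((Q : Subgroup R) : Set R)) = 3 :=
      normalizer_conj_eq_card Q h4 (by rw [hR])
    let f := MulAction.toPermHom R (Sylow 3 R)
    have hf : Function.Injective f := by
      rw [← MonoidHom.ker_eq_bot_iff, eq_bot_iff]
      intro g hg
      have hfix : ∀ S : Sylow 3 R, g ∈ (S : Subgroup R) := fun S => by
        have h : g • S = S := congrFun (congrArg DFunLike.coe hg) S
        have hS3 : Nat.card (S : Subgroup R) = 3 := by
          rw [card_sylow_eq (a := 1) (m := 4) (by rw [hR]; norm_num) (by norm_num) S, pow_one]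
        have hNS : Nat.card (normalizer ((S : Subgroup R) : Set R)) = 3 :=
          normalizer_conj_eq_card S h4 (by rw [hR])
        have heq : (S : Subgroup R) = normalizer ((S : Subgroup R) : Set R) :=
          eq_of_le_of_card_ge le_normalizer (by rw [hS3, hNS])
        rw [heq]
        exact Sylow.smul_eq_iff_mem_normalizer.mp h
      obtain ⟨S, hS⟩ : ∃ S : Sylow 3 R, S ≠ Q := by
        have : Nontrivial (Sylow 3 R) := Finite.one_lt_card_iff_nontrivial.mp (by omega)
        exact exists_ne Q
      rw [mem_bot]
      by_contra hg1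
      refine hS (Sylow.ext ?_)
      have hz : ∀ S : Sylow 3 R, zpowers g = (S : Subgroup R) := fun S => by
        have hS3 : Nat.card (S : Subgroup R) = 3 := by
          rw [card_sylow_eq (a := 1) (m := 4) (by rw [hR]; norm_num) (by norm_num) S, pow_one]
        refine eq_of_le_of_card_ge (zpowers_le.mpr (hfix S)) ?_
        rw [hS3, Nat.card_zpowers]
        have hd : orderOf g ∣ 3 := hS3 ▸ Subgroup.orderOf_dvd_natCard _ (hfix S)
        rcases (Nat.dvd_prime Nat.prime_three).mp hd with h | h
        · exact absurd (orderOf_eq_one_iff.mp h) hg1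
        · omega
      rw [← hz S, hz Q]
    obtain ⟨e⟩ : Nonempty (Sylow 3 R ≃ Fin 4) :=
      ⟨(Finite.equivFinOfCardEq (by rw [h4]))⟩
    let F : R →* Equiv.Perm (Fin 4) := (Equiv.permCongrHom e).toMonoidHom.comp f
    have hF : Function.Injective F := (Equiv.permCongrHom e).injective.comp hf
    have hcard : Nat.card F.range = 12 := by
      rw [← Nat.card_congr (MonoidHom.ofInjective hF).toEquiv, hR]
    have hrange : F.range = alternatingGroup (Fin 4) := by
      apply Equiv.Perm.eq_alternatingGroup_of_index_eq_two
      have h := Subgroup.card_mul_index F.range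
      rw [hcard, Nat.card_perm, Nat.card_fin] at h
      norm_num [Nat.factorial] at h
      omega
    exact ⟨(MonoidHom.ofInjective hF).trans (MulEquiv.subgroupCongr hrange)⟩

end Cfsg.Agent.M12Graph71
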