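import Cfsg.Agent.M12Graph71.Eleven
import Cfsg.Agent.M12Graph71.Small
import Cfsg.Agent.CharDeep.Deg.DegreeP
import Cfsg.Agent.Lib.CharCore.ProjectiveChar
import Cfsg.Agent.Lib.Solvable.Basic
import Cfsg.Agent.Lib.Steiner.M11.Unique
import Cfsg.Agent.Lib.Steiner.M11.Degrees
import Cfsg.Agent.Lib.Golay.M12Outer
import Cfsg.Agent.Lib.Golay.Mult.M11
import Cfsg.Agent.S0188
import Cfsg.Prelude.Def_KGroupFacts

/-!
# Groups of order 95040 with degrees divisible by 55 and by 33
-/

set_option autoImplicit false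
set_option linter.unusedSectionVars false

namespace Cfsg.Agent.M12Graph71

open Subgroup Cfsg.Agent.SmallGroups
open scoped commutatorElement

universe u

variable {G : Type u} [Group G] [Finite G]

/-- A constituent of the restriction to a normal subgroup. -/
theorem exists_constituent_dvd (N : Subgroup G) [N.Normal] (χ : Cfsg.IrrCharacter G) :
    ∃ θ : Cfsg.IrrCharacter N, ∃ f : ℕ, f ∣ N.index ∧
      Cfsg.charDegree (χ : G → ℂ) = f * Cfsg.charDegree (θ : N → ℂ) := by
  have := Fintype.ofFinite G
  have := Fintype.ofFinite N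
  obtain ⟨θ, hθ⟩ := CharClifford.exists_constituent
    (CharCore.isCharacter_restrict (CharCore.irr_isCharacter χ) N)
    (CharCore.irr_apply_one_ne_zero χ)
  obtain ⟨f, hf, hfd⟩ := CharCore.exists_degree_eq_mul N θ.2 χ.2 hθ
  refine ⟨θ, f, hfd, ?_⟩
  rw [CharDeep.Deg.apply_one χ, CharDeep.Deg.apply_one θ] at hf
  exact_mod_cast hf

/-- The elements of order 11 of a group in which some normal subgroup has index prime to 11. -/
theorem mem_of_pow_eleven (N : Subgroup G) [N.Normal] (h : ¬ 11 ∣ N.index) {x : G}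
    (hx : x ^ 11 = 1) : x ∈ N := by
  rw [← QuotientGroup.eq_one_iff]
  by_contra hne
  have h1 : orderOf (x : G ⧸ N) ∣ 11 :=
    orderOf_dvd_of_pow_eq_one (by rw [← QuotientGroup.mk_pow, hx, QuotientGroup.mk_one])
  rcases (Nat.dvd_prime (by norm_num)).mp h1 with h2 | h2
  · exact hne (orderOf_eq_one_iff.mp h2)
  · exact h (h2 ▸ index_eq_card N ▸ orderOf_dvd_natCard _)

/-- A group covered by its centre and a perfect central quotient has perfect derived group. -/
theorem derived_stem {E : Type u} [Group E] {M : Type*} [Group M] (σ : E →* M)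
    (hσ : Function.Surjective σ) (hker : σ.ker ≤ center E) (hperf : commutator M = ⊤) :
    IsStemExtension (σ.comp (commutator E).subtype) := by
  have hsurj : ∀ m : M, ∃ a ∈ commutator E, σ a = m := by
    intro m
    have hm : m ∈ (commutator E).map σ := by
      rw [_root_.commutator_def, map_commutator, map_top_of_surjective σ hσ,
        ← _root_.commutator_def, hperf]
      trivial
    exact hm
  refine ⟨fun m => ?_, ?_, ?_⟩
  · obtain ⟨a, ha, rfl⟩ := hsurj m
    exact ⟨⟨a, ha⟩, rfl⟩
  · intro x hx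
    rw [mem_center_iff]
    intro y
    exact Subtype.ext (mem_center_iff.mp (hker (show (x : E) ∈ σ.ker from hx)) y)
  · have hall : commutator ↥(commutator E) = ⊤ := by
      rw [eq_top_iff]
      suffices h : commutator E ≤ (commutator ↥(commutator E)).map (commutator E).subtype by
        intro x _
        obtain ⟨y, hy, hyx⟩ := h x.2
        rwa [← Subtype.ext hyx]
      refine le_trans (le_of_eq (_root_.commutator_eq_closure E)) ((closure_le _).mpr ?_)
      rintro _ ⟨a, b, rfl⟩
      obtain ⟨a', ha', hσa⟩ := hsurj (σ a)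
      obtain ⟨b', hb', hσb⟩ := hsurj (σ b)
      have hca : a'⁻¹ * a ∈ center E :=
        hker (by rw [MonoidHom.mem_ker, map_mul, map_inv, hσa, inv_mul_cancel])
      have hcb : b'⁻¹ * b ∈ center E :=
        hker (by rw [MonoidHom.mem_ker, map_mul, map_inv, hσb, inv_mul_cancel])
      have hcomm : ⁅a, b⁆ = ⁅a', b'⁆ := by
        have e1 : a = a' * (a'⁻¹ * a) := by group
        have e2 : b = b' * (b'⁻¹ * b) := by group
        generalize a'⁻¹ * a = c at e1 hca
        generalize b'⁻¹ * b = d at e2 hcb
        subst e1 e2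
        have hc := mem_center_iff.mp hca
        have hd := mem_center_iff.mp hcb
        rw [commutatorElement_def, commutatorElement_def]
        calc a' * c * (b' * d) * (a' * c)⁻¹ * (b' * d)⁻¹
            = a' * (c * (b' * d)) * c⁻¹ * a'⁻¹ * d⁻¹ * b'⁻¹ := by group
          _ = a' * ((b' * d) * c) * c⁻¹ * a'⁻¹ * d⁻¹ * b'⁻¹ := by rw [← hc]
          _ = a' * b' * (d * a'⁻¹) * d⁻¹ * b'⁻¹ := by group
          _ = a' * b' * (a'⁻¹ * d) * d⁻¹ * b'⁻¹ := by rw [← hd]
          _ = a' * b' * a'⁻¹ * b'⁻¹ := by group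
      refine ⟨⁅(⟨a', ha'⟩ : ↥(commutator E)), (⟨b', hb'⟩ : ↥(commutator E))⁆, ?_, by rw [hcomm]; rfl⟩
      exact commutator_mem_commutator (mem_top _) (mem_top _)
    rw [hall]
    exact le_top

theorem eleven_fact : Nat.Prime 11 := by norm_num

/-- The two possibilities. -/
theorem structure_cases (hcard : Nat.card G = 95040)
    (h55 : ∃ χ : Cfsg.IrrCharacter G, 55 ∣ Cfsg.charDegree (χ : G → ℂ))
    (h33 : ∃ χ : Cfsg.IrrCharacter G, 33 ∣ Cfsg.charDegree (χ : G → ℂ)) :
    IsSimpleGroup G ∨ Nonempty (G ≃* alternatingGroup (Fin 4) × ↥Cfsg.Spor.M11) := by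
  classical
  have := Fintype.ofFinite G
  have : Fact (Nat.Prime 11) := ⟨eleven_fact⟩
  obtain ⟨χ55, h55⟩ := h55
  -- a largest normal subgroup of order prime to 11
  have : Nonempty {K : Subgroup G // K.Normal ∧ ¬ 11 ∣ Nat.card K} :=
    ⟨⟨⊥, inferInstance, by rw [card_bot]; norm_num⟩⟩
  obtain ⟨⟨K, hKn, hK11⟩, hmax⟩ := Finite.exists_max
    fun K : {K : Subgroup G // K.Normal ∧ ¬ 11 ∣ Nat.card K} => Nat.card K.1
  have hKdvd : Nat.card K * Nat.card (G ⧸ K) = 95040 := by
    rw [← hcard, ← index_eq_card, card_mul_index]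
  have hQ11 : 11 ∣ Nat.card (G ⧸ K) := by
    have h : 11 ∣ Nat.card K * Nat.card (G ⧸ K) := hKdvd ▸ by norm_num
    exact (eleven_fact.dvd_mul.mp h).resolve_left hK11
  have hQ121 : ¬ 11 ^ 2 ∣ Nat.card (G ⧸ K) := fun h => by
    have h' : 11 ^ 2 ∣ 95040 := hKdvd ▸ h.trans (dvd_mul_left _ _)
    norm_num at h'
  -- every nontrivial normal subgroup of the quotient has order divisible by 11
  have hbig : ∀ M : Subgroup (G ⧸ K), M.Normal → M ≠ ⊥ → 11 ∣ Nat.card M := by
    intro M hM hMb
    by_contra h
    set H := M.comap (QuotientGroup.mk' K) with hH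
    have hHK : Nat.card H = Nat.card K * Nat.card M := by
      have h1 := card_mul_index H
      have h2 := card_mul_index M
      rw [hH, index_comap_of_surjective _ (QuotientGroup.mk'_surjective K)] at h1
      have h3 : Nat.card H * M.index = (Nat.card K * Nat.card M) * M.index := by
        rw [mul_assoc, h2, hH, h1, hKdvd, hcard]
      exact Nat.eq_of_mul_eq_mul_right (Nat.pos_of_ne_zero index_ne_zero_of_finite) h3
    have hle := hmax ⟨H, hM.comap _, fun h' => by
      rw [hHK] at h'
      exact (eleven_fact.dvd_mul.mp h').elim hK11 h⟩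
    simp only at hle
    rw [hHK] at hle
    have h1 : 1 < Nat.card M := by
      rw [Finite.one_lt_card_iff_nontrivial]
      exact (nontrivial_iff_ne_bot M).mpr hMb
    have hpos : 0 < Nat.card K := Nat.card_pos
    nlinarith
  have : Nontrivial (G ⧸ K) := by
    rw [← Finite.one_lt_card_iff_nontrivial]
    have := Nat.le_of_dvd Nat.card_pos hQ11
    omega
  obtain ⟨T, hTn, hTb, hTmin⟩ := Cfsg.Agent.Solvable.exists_minimal_normal (G ⧸ K)
  have hT11 := hbig T hTn hTb
  have hTi : ¬ 11 ∣ T.index := fun h => hQ121 (by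
    rw [← T.card_mul_index, sq]; exact mul_dvd_mul hT11 h)
  have hTdvd : Nat.card T ∣ 95040 :=
    (card_subgroup_dvd_card T).trans (hKdvd ▸ dvd_mul_left _ _)
  obtain ⟨x, hx⟩ := exists_prime_orderOf_dvd_card' (G := T) 11 hT11
  -- `T` is not abelian
  have hTnc : ¬ IsMulCommutative T := by
    intro hab
    have hc := isMulCommutative_iff.mp hab
    -- the Sylow 11-subgroup is normal in the quotient, so all of `T`
    let S : Subgroup (G ⧸ K) :=
      { carrier := {y | y ∈ T ∧ y ^ 11 = 1}
        one_mem' := ⟨one_mem T, one_pow _⟩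
        mul_mem' := fun {a b} ha hb => ⟨mul_mem ha.1 hb.1, by
          rw [(show Commute a b from congrArg Subtype.val (hc ⟨a, ha.1⟩ ⟨b, hb.1⟩)).mul_pow,
            ha.2, hb.2, one_mul]⟩
        inv_mem' := fun {a} ha => ⟨inv_mem ha.1, by rw [inv_pow, ha.2, inv_one]⟩ }
    have hSn : S.Normal := ⟨fun a ha g => ⟨hTn.conj_mem a ha.1 g, by
      rw [conj_pow, ha.2, mul_one, mul_inv_cancel]⟩⟩
    have hxS : (x : G ⧸ K) ∈ S :=
      ⟨x.2, by rw [← hx, ← Subgroup.orderOf_coe, pow_orderOf_eq_one]⟩
    have hST : S = T := (hTmin S hSn fun y hy => hy.1).resolve_left fun h => by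
      rw [h, mem_bot, OneMemClass.coe_eq_one] at hxS
      rw [hxS, orderOf_one] at hx
      norm_num at hx
    have hexp : ∀ y ∈ T, y ^ 11 = 1 := fun y hy => ((hST.symm ▸ hy : y ∈ S) : y ∈ T ∧ _).2
    have hT11' : Nat.card T = 11 := by
      have hp : IsPGroup 11 T := fun y => ⟨1, Subtype.ext (by simpa using hexp y y.2)⟩
      obtain ⟨n, hn⟩ := IsPGroup.iff_card.mp hp
      have hn2 : n < 2 := by
        by_contra h
        exact hQ121 ((pow_dvd_pow 11 (by omega)).trans (hn ▸ card_subgroup_dvd_card T))
      interval_cases n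
      · rw [hn] at hT11; norm_num at hT11
      · simpa using hn
    -- lift to `G`
    obtain ⟨y, hy⟩ := exists_prime_orderOf_dvd_card' (G := G) 11 (by rw [hcard]; norm_num)
    have hy11 : y ^ 11 = 1 := by rw [← hy, pow_orderOf_eq_one]
    have hKy := commute_of_normalizes (by rw [hcard]) hy11 (N := K)
      (by rw [normalizer_eq_top]; trivial) hK11
    have hyK : ¬ y ∈ K := fun h => hK11 (hy ▸ Subgroup.orderOf_dvd_natCard K h)
    have hyT : (QuotientGroup.mk' K y) ∈ T :=
      mem_of_pow_eleven T hTi (by rw [← map_pow, hy11, map_one])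
    have hgen : zpowers (QuotientGroup.mk' K y) = T :=
      eq_of_le_of_card_ge (zpowers_le.mpr hyT) (by
        rw [hT11', Nat.card_zpowers]
        refine Nat.le_of_dvd (orderOf_pos _) ?_
        have h1 : orderOf (QuotientGroup.mk' K y) ∣ 11 := orderOf_dvd_of_pow_eq_one
          (by rw [← map_pow, hy11, map_one])
        rcases (Nat.dvd_prime eleven_fact).mp h1 with h2 | h2
        · exact absurd ((QuotientGroup.eq_one_iff y).mp (orderOf_eq_one_iff.mp h2)) hyK
        · rw [h2])
    have hPn : (zpowers y).Normal := by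
      refine ⟨fun a ha g => ?_⟩
      have ha11 : a ^ 11 = 1 := by
        obtain ⟨i, rfl⟩ := mem_zpowers_iff.mp ha
        rw [← zpow_natCast, ← zpow_mul, mul_comm, zpow_mul, zpow_natCast, hy11, one_zpow]
      set c := g * a * g⁻¹ with hc'
      have hc11 : c ^ 11 = 1 := by rw [hc', conj_pow, ha11, mul_one, mul_inv_cancel]
      have hcT : QuotientGroup.mk' K c ∈ zpowers (QuotientGroup.mk' K y) :=
        hgen ▸ mem_of_pow_eleven T hTi (by rw [← map_pow, hc11, map_one])
      obtain ⟨i, hi⟩ := mem_zpowers_iff.mp hcT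
      rw [← map_zpow] at hi
      have hk : (y ^ i)⁻¹ * c ∈ K := by
        rw [← QuotientGroup.eq_one_iff]
        show QuotientGroup.mk' K ((y ^ i)⁻¹ * c) = 1
        rw [map_mul, map_inv, hi, inv_mul_cancel]
      set k := (y ^ i)⁻¹ * c with hkdef
      have hck : c = y ^ i * k := by rw [hkdef]; group
      have hk11 : k ^ 11 = 1 := by
        have h1 := hc11
        rw [hck, ((hKy k hk).zpow_left i).mul_pow, ← zpow_natCast (y ^ i), ← zpow_mul, mul_comm i,
          zpow_mul, zpow_natCast, hy11, one_zpow, one_mul] at h1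
        exact h1
      have hk1 : k = 1 := by
        have h1 := orderOf_dvd_of_pow_eq_one hk11
        rcases (Nat.dvd_prime eleven_fact).mp h1 with h2 | h2
        · exact orderOf_eq_one_iff.mp h2
        · exact absurd (h2 ▸ Subgroup.orderOf_dvd_natCard K hk) hK11
      rw [hck, hk1, mul_one]
      exact zpow_mem (mem_zpowers y) i
    have hdeg := CharDeep.Deg.degree_dvd_index χ55 (zpowers y) (fun a ha b hb => by
      obtain ⟨i, rfl⟩ := mem_zpowers_iff.mp ha
      obtain ⟨j, rfl⟩ := mem_zpowers_iff.mp hb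
      rw [← zpow_add, ← zpow_add, add_comm])
    have hidx : (zpowers y).index = 8640 := by
      have h1 := card_mul_index (zpowers y)
      rw [Nat.card_zpowers, hy, hcard] at h1
      omega
    have := h55.trans (hidx ▸ hdeg)
    norm_num at this
  -- `T` is simple
  have hgenT : ∀ M : Subgroup (G ⧸ K), M.Normal → M ≤ T → M ≠ ⊥ → M = T := fun M hM hle hb =>
    (hTmin M hM hle).resolve_left hb
  have : Nontrivial T := (nontrivial_iff_ne_bot T).mpr hTb
  have hTs : IsSimpleGroup T := by
    refine ⟨fun A hA => ?_⟩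
    by_contra hAne
    push Not at hAne
    by_cases hA11 : 11 ∣ Nat.card A
    · -- all elements of order eleven lie in `A`
      have hidx : ¬ 11 ∣ A.index := fun h => hQ121 (by
        rw [sq]
        exact (mul_dvd_mul hA11 h).trans (A.card_mul_index ▸ card_subgroup_dvd_card T))
      set M := Subgroup.closure {y : G ⧸ K | y ∈ T ∧ y ^ 11 = 1} with hMdef
      have hMT : M ≤ A.map T.subtype := by
        rw [hMdef, closure_le]
        rintro y ⟨hy, hy11⟩
        exact ⟨⟨y, hy⟩, mem_of_pow_eleven A hidx (Subtype.ext hy11), rfl⟩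
      have hMn : M.Normal := by
        refine ⟨fun a ha g => ?_⟩
        have h : M.map (MulAut.conj g).toMonoidHom ≤ M := by
          rw [hMdef, MonoidHom.map_closure, closure_le]
          rintro _ ⟨y, ⟨hy, hy11⟩, rfl⟩
          refine subset_closure ⟨hTn.conj_mem y hy g, ?_⟩
          show (g * y * g⁻¹) ^ 11 = 1
          rw [conj_pow, hy11, mul_one, mul_inv_cancel]
        exact h ⟨a, ha, rfl⟩
      have hMb : M ≠ ⊥ := fun h => by
        have hxM : (x : G ⧸ K) ∈ M :=
          subset_closure ⟨x.2, by rw [← hx, ← Subgroup.orderOf_coe, pow_orderOf_eq_one]⟩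
        rw [h, mem_bot, OneMemClass.coe_eq_one] at hxM
        rw [hxM, orderOf_one] at hx
        norm_num at hx
      have hMeq := hgenT M hMn (closure_le _ |>.mpr fun y hy => hy.1) hMb
      refine hAne.2 (eq_top_iff.mpr fun t _ => ?_)
      have ht : (t : G ⧸ K) ∈ A.map T.subtype := hMT (hMeq.symm ▸ t.2)
      obtain ⟨a, ha, hat⟩ := ht
      rwa [← Subtype.ext hat]
    · -- `x` centralises every conjugate of `A`
      set M := Subgroup.normalClosure ((A.map T.subtype : Subgroup (G ⧸ K)) : Set (G ⧸ K)) with hMdef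
      have hMb : M ≠ ⊥ := fun h => hAne.1 ((map_eq_bot_iff_of_injective _ T.subtype_injective).mp
        (le_bot_iff.mp (h ▸ Subgroup.le_normalClosure)))
      have hMeq := hgenT M normalClosure_normal
        (normalClosure_le_normal fun y hy => by obtain ⟨a, -, rfl⟩ := hy; exact a.2) hMb
      have hcen : ∀ y ∈ M, Commute (x : G ⧸ K) y := by
        have hle : M ≤ centralizer ({(x : G ⧸ K)} : Set (G ⧸ K)) := by
          rw [hMdef, normalClosure, closure_le]
          intro y hy
          obtain ⟨b, hb, hby⟩ := Group.mem_conjugatesOfSet_iff.mp hy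
          obtain ⟨a, ha, rfl⟩ := hb
          obtain ⟨g, rfl⟩ := isConj_iff.mp hby
          -- conjugate `x` back
          set x' : T := ⟨g⁻¹ * x * g, by simpa using hTn.conj_mem _ x.2 g⁻¹⟩
          have hx' : x' ^ 11 = 1 := by
            apply Subtype.ext
            show (g⁻¹ * (x : G ⧸ K) * g) ^ 11 = 1
            have h := conj_pow (i := 11) (a := g⁻¹) (b := (x : G ⧸ K))
            rw [inv_inv] at h
            rw [h, ← hx, ← Subgroup.orderOf_coe, pow_orderOf_eq_one, mul_one, inv_mul_cancel]
          have hcomm := commute_of_normalizes (G := T) hTdvd hx' (N := A)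
            (by rw [normalizer_eq_top]; trivial) hA11 a ha
          rw [SetLike.mem_coe, mem_centralizer_singleton_iff]
          have h1 : g⁻¹ * (x : G ⧸ K) * g * (a : G ⧸ K) = (a : G ⧸ K) * (g⁻¹ * x * g) :=
            congrArg Subtype.val hcomm.eq
          calc g * (a : G ⧸ K) * g⁻¹ * (x : G ⧸ K) = g * ((a : G ⧸ K) * (g⁻¹ * x * g)) * g⁻¹ := by
                group
            _ = g * (g⁻¹ * (x : G ⧸ K) * g * a) * g⁻¹ := by rw [h1]
            _ = _ := by simp [mul_assoc]
        exact fun y hy => (mem_centralizer_singleton_iff.mp (hle hy)).symm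
      have hxc : x ∈ center T := mem_center_iff.mpr fun t =>
        Subtype.ext (hcen t (hMeq.symm ▸ t.2)).symm
      have hZn : ((center T).map T.subtype).Normal := by
        refine ⟨fun a ha g => ?_⟩
        obtain ⟨c, hc, rfl⟩ := ha
        refine ⟨⟨g * c * g⁻¹, hTn.conj_mem _ c.2 g⟩, ?_, rfl⟩
        rw [SetLike.mem_coe, mem_center_iff]
        intro t
        have h1 := mem_center_iff.mp hc ⟨g⁻¹ * t * g, by simpa using hTn.conj_mem _ t.2 g⁻¹⟩
        have h2 : g⁻¹ * (t : G ⧸ K) * g * c = c * (g⁻¹ * t * g) := congrArg Subtype.val h1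
        refine Subtype.ext ?_
        show (t : G ⧸ K) * (g * c * g⁻¹) = g * c * g⁻¹ * t
        calc (t : G ⧸ K) * (g * c * g⁻¹) = g * (g⁻¹ * t * g * c) * g⁻¹ := by group
          _ = g * (c * (g⁻¹ * t * g)) * g⁻¹ := by rw [h2]
          _ = _ := by group
      have hZe := hgenT _ hZn (map_subtype_le _) fun h => by
        have : (x : G ⧸ K) ∈ (center T).map T.subtype := ⟨x, hxc, rfl⟩
        rw [h, mem_bot, OneMemClass.coe_eq_one] at this
        rw [this, orderOf_one] at hx
        norm_num at hx
      refine hTnc (isMulCommutative_iff.mpr fun a b => ?_)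
      have hb : (b : G ⧸ K) ∈ (center T).map T.subtype := hZe.symm ▸ b.2
      obtain ⟨b', hb', hbb⟩ := hb
      rw [← Subtype.ext hbb]
      exact mem_center_iff.mp hb' a
  -- the possible orders
  set N := T.comap (QuotientGroup.mk' K) with hNdef
  have hNn : N.Normal := hTn.comap _
  have hNidx : N.index = T.index :=
    index_comap_of_surjective _ (QuotientGroup.mk'_surjective K)
  have hprod : Nat.card K * (Nat.card T * T.index) = 95040 := by rw [card_mul_index, hKdvd]
  have hK8640 : ∀ n : ℕ, Nat.card T = n → Nat.card K * T.index * n = 95040 := fun n h => by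
    rw [← h, mul_assoc, mul_comm T.index, hprod]
  let π : N →* T := ((QuotientGroup.mk' K).comp N.subtype).codRestrict T fun n => n.2
  have hπ : Function.Surjective π := by
    rintro ⟨q, hq⟩
    obtain ⟨g, rfl⟩ := QuotientGroup.mk'_surjective K q
    exact ⟨⟨g, hq⟩, rfl⟩
  have hπker : ∀ n : N, n ∈ π.ker ↔ (n : G) ∈ K := fun n => by
    rw [MonoidHom.mem_ker, ← QuotientGroup.eq_one_iff]
    exact Subtype.ext_iff
  -- the centraliser of `K` in `N`, a central extension of `T`
  set C := (centralizer (K : Set G)).subgroupOf N with hCdef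
  have hCn : C.Normal := by
    have : (centralizer (K : Set G)).Normal := inferInstance
    exact this.subgroupOf N
  have hCsurj : Function.Surjective (π.comp C.subtype) := by
    rw [← MonoidHom.range_eq_top, MonoidHom.range_comp, Subgroup.range_subtype]
    refine (Subgroup.Normal.map hCn π hπ).eq_bot_or_eq_top.resolve_left fun h => ?_
    obtain ⟨y, hy⟩ := exists_prime_orderOf_dvd_card' (G := G) 11 (by rw [hcard]; norm_num)
    have hy11 : y ^ 11 = 1 := by rw [← hy, pow_orderOf_eq_one]
    have hyN : y ∈ N := mem_of_pow_eleven T hTi (by rw [← map_pow, hy11, map_one])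
    have hyC : (⟨y, hyN⟩ : N) ∈ C := mem_subgroupOf.mpr (mem_centralizer_iff.mpr fun k hk =>
      (commute_of_normalizes (by rw [hcard]) hy11 (by rw [normalizer_eq_top]; trivial) hK11
        k hk).eq.symm)
    have h1 : π ⟨y, hyN⟩ = 1 := mem_bot.mp (h ▸ mem_map_of_mem π hyC)
    exact hK11 (hy ▸ Subgroup.orderOf_dvd_natCard K ((hπker _).mp h1))
  have hCker : (π.comp C.subtype).ker ≤ center C := by
    intro c hc
    rw [mem_center_iff]
    intro d
    refine Subtype.ext (Subtype.ext ?_)
    have hcK : ((c : N) : G) ∈ K := (hπker _).mp hc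
    exact ((mem_centralizer_iff.mp (mem_subgroupOf.mp d.2)) _ hcK).symm
  rcases card_cases hTnc hTdvd hT11 with h | h | h
  · -- order 660
    exfalso
    have h144 : Nat.card K * T.index = 144 := by have := hK8640 _ h; omega
    obtain ⟨θ, f, hf, hfd⟩ := exists_constituent_dvd N χ55
    obtain ⟨β, f', hf', hfd'⟩ := exists_constituent_dvd C θ
    have hfdvd : f ∣ 144 := hf.trans (hNidx ▸ Dvd.intro_left _ h144)
    have hf'dvd : f' ∣ 144 := by
      refine hf'.trans ?_
      have h1 : C.index ∣ Nat.card π.ker := by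
        have hCt : C ⊔ π.ker = ⊤ := by
          rw [← comap_map_eq]
          have h2 : C.map π = ⊤ := by
            rw [← MonoidHom.range_eq_top.mpr hCsurj, MonoidHom.range_comp, Subgroup.range_subtype]
          rw [h2, comap_top]
        rw [← relIndex_top_right, ← hCt, relIndex_sup_left, relIndex]
        exact index_dvd_card _
      refine h1.trans (Dvd.intro T.index ?_)
      rw [← h144]
      congr 1
      exact Nat.card_congr
        { toFun := fun n => ⟨(n.1 : G), (hπker n.1).mp n.2⟩
          invFun := fun k => ⟨⟨k.1, by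
            show QuotientGroup.mk' K k.1 ∈ T
            rw [show QuotientGroup.mk' K k.1 = 1 from (QuotientGroup.eq_one_iff _).mpr k.2]
            exact one_mem T⟩, (hπker _).mpr k.2⟩
          left_inv := fun _ => rfl
          right_inv := fun _ => rfl }
    have h55' : 55 ∣ Cfsg.charDegree (β : C → ℂ) := by
      rw [hfd, hfd'] at h55
      have hc1 : Nat.Coprime 55 f := Nat.Coprime.coprime_dvd_right hfdvd (by norm_num)
      have hc2 : Nat.Coprime 55 f' := Nat.Coprime.coprime_dvd_right hf'dvd (by norm_num)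
      exact hc2.dvd_of_dvd_mul_left (hc1.dvd_of_dvd_mul_left h55)
    have hsq := CharDeep.Deg.degree_sq_le_index_center β
    have hZ : (center C).index ≤ 660 := by
      have h1 := index_dvd_of_le hCker
      have h2 : (π.comp C.subtype).ker.index = Nat.card T := by
        rw [index_ker, MonoidHom.range_eq_top.mpr hCsurj, card_top]
      rw [h2, h] at h1
      exact Nat.le_of_dvd (by norm_num) h1
    have hpos := CharDeep.Deg.degree_pos β
    have := Nat.le_of_dvd hpos h55'
    nlinarith
  · -- order 7920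
    right
    have h12 : Nat.card K * T.index = 12 := by have := hK8640 _ h; omega
    have hM : Cfsg.IsM11 ↥Cfsg.Spor.M11 := ⟨Golay.isSimpleGroup_M11, Golay.card_M11⟩
    obtain ⟨e⟩ := Steiner.M11.nonempty_mulEquiv (G := T) ⟨hTs, h⟩ hM
    -- the conjugation action is inner
    have hDb : centralizer (T : Set (G ⧸ K)) = ⊥ := by
      by_contra hDne
      obtain ⟨d, hd⟩ := exists_prime_orderOf_dvd_card' (G := centralizer (T : Set (G ⧸ K))) 11
        (hbig _ inferInstance hDne)
      have hd11 : (d : G ⧸ K) ^ 11 = 1 := by rw [← hd, ← Subgroup.orderOf_coe, pow_orderOf_eq_one]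
      have hdT : (d : G ⧸ K) ∈ T := mem_of_pow_eleven T hTi hd11
      have hdc : (⟨d, hdT⟩ : T) ∈ center T := mem_center_iff.mpr fun t =>
        Subtype.ext (mem_centralizer_iff.mp d.2 t t.2)
      rw [center_eq_bot_of_not_comm hTnc, mem_bot] at hdc
      have h1 : (d : G ⧸ K) = 1 := congrArg Subtype.val hdc
      rw [OneMemClass.coe_eq_one] at h1
      rw [h1, orderOf_one] at hd
      norm_num at hd
    have hTtop : T = ⊤ := by
      rw [eq_top_iff]
      intro q _
      have hinn : (MulAut.congr e) (MulAut.conjNormal q) ∈ Cfsg.Inn ↥Cfsg.Spor.M11 :=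
        Golay.mem_Inn_M11 _
      obtain ⟨m, hm⟩ := hinn
      set t : T := e.symm m with ht
      have hact : ∀ a : T, q * (a : G ⧸ K) * q⁻¹ = (t : G ⧸ K) * a * (t : G ⧸ K)⁻¹ := by
        intro a
        have h1 := DFunLike.congr_fun hm (e a)
        simp only [MulAut.conj_apply, MulAut.congr, MulEquiv.coe_mk, Equiv.coe_fn_mk,
          MulEquiv.trans_apply, MulEquiv.symm_apply_apply] at h1
        have h2 := congrArg e.symm h1
        rw [map_mul, map_mul, map_inv, MulEquiv.symm_apply_apply, MulEquiv.symm_apply_apply] at h2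
        have h3 := congrArg Subtype.val h2
        simpa [ht] using h3.symm
      have hc : (t : G ⧸ K)⁻¹ * q ∈ centralizer (T : Set (G ⧸ K)) := by
        rw [mem_centralizer_iff]
        intro a ha
        have h1 := hact ⟨a, ha⟩
        simp only at h1
        calc a * ((t : G ⧸ K)⁻¹ * q) = (t : G ⧸ K)⁻¹ * ((t : G ⧸ K) * a * (t : G ⧸ K)⁻¹) * q := by
              group
          _ = (t : G ⧸ K)⁻¹ * (q * a * q⁻¹) * q := by rw [h1]
          _ = (t : G ⧸ K)⁻¹ * q * a := by group
      rw [hDb, mem_bot, inv_mul_eq_one] at hc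
      exact hc ▸ t.2
    have hK12 : Nat.card K = 12 := by rw [hTtop, index_top, mul_one] at h12; exact h12
    -- the derived group of the centraliser is `M11`
    let σ : C →* ↥Cfsg.Spor.M11 := e.toMonoidHom.comp (π.comp C.subtype)
    have hσ : Function.Surjective σ := e.surjective.comp hCsurj
    have hσker : σ.ker ≤ center C := fun c hc => hCker (MonoidHom.mem_ker.mpr
      (e.injective ((MonoidHom.mem_ker.mp hc).trans (map_one e).symm)))
    have hperf : commutator ↥Cfsg.Spor.M11 = ⊤ := by
      have := Golay.isSimpleGroup_M11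
      refine (Subgroup.Normal.eq_bot_or_eq_top inferInstance).resolve_left fun hb => ?_
      refine hTnc (isMulCommutative_iff.mpr fun a b => e.injective ?_)
      rw [map_mul, map_mul, ← commutatorElement_eq_one_iff_mul_comm, ← mem_bot, ← hb]
      exact commutator_mem_commutator (mem_top _) (mem_top _)
    obtain ⟨hsσ, hcσ, hdσ⟩ := derived_stem σ hσ hσker hperf
    let D := commutator C
    let es : Shrink.{0} D ≃* D := Shrink.mulEquiv
    let τ : Shrink.{0} D →* ↥Cfsg.Spor.M11 := (σ.comp D.subtype).comp es.toMonoidHom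
    have : Finite (Shrink.{0} D) := Finite.of_equiv D es.symm.toEquiv
    have hτ : Cfsg.IsStemExtension τ := by
      refine ⟨hsσ.comp es.surjective, fun x hx => ?_, fun x hx => ?_⟩
      · rw [mem_center_iff]
        intro y
        refine es.injective ?_
        rw [map_mul, map_mul]
        exact mem_center_iff.mp (hcσ (show es x ∈ (σ.comp D.subtype).ker from hx)) (es y)
      · have h1 := hdσ (show es x ∈ (σ.comp D.subtype).ker from hx)
        have h2 : es x ∈ (commutator (Shrink.{0} D)).map es.toMonoidHom := by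
          rw [_root_.commutator_def, map_commutator, map_top_of_surjective _ es.surjective,
            ← _root_.commutator_def]
          exact h1
        obtain ⟨y, hy, hyx⟩ := h2
        exact es.injective hyx ▸ hy
    obtain ⟨p, hp⟩ := (Golay.Mult.hasCyclicSchurMultiplier_M11).2 _ τ hτ
    have hinj : Function.Injective (σ.comp D.subtype) := by
      rw [← MonoidHom.ker_eq_bot_iff, eq_bot_iff]
      intro d hd
      have hdker : es.symm d ∈ τ.ker := by
        rw [MonoidHom.mem_ker]
        simpa [τ] using hd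
      obtain ⟨a, ha⟩ := hp ⟨_, hdker⟩
      rw [Subsingleton.elim a 1, map_one] at ha
      have h1 : es.symm d = 1 := (congrArg Subtype.val ha).symm
      rw [mem_bot, ← es.apply_symm_apply d, h1, map_one]
    let eD : D ≃* ↥Cfsg.Spor.M11 := MulEquiv.ofBijective (σ.comp D.subtype) ⟨hinj, hsσ⟩
    let iD : D →* G := N.subtype.comp (C.subtype.comp D.subtype)
    have hcomm : ∀ (k : K) (d : D), Commute (K.subtype k) (iD d) := fun k d =>
      mem_centralizer_iff.mp (mem_subgroupOf.mp ((D.subtype d).2)) k k.2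
    let Φ : K × D →* G := MonoidHom.noncommCoprod K.subtype iD hcomm
    have hΦ : Function.Injective Φ := by
      rw [← MonoidHom.ker_eq_bot_iff, eq_bot_iff]
      rintro ⟨k, d⟩ hkd
      have hkd' : (k : G) * iD d = 1 := hkd
      have hdK : iD d ∈ K := by
        rw [eq_inv_of_mul_eq_one_right hkd']
        exact inv_mem k.2
      have hd1 : d = 1 := hinj (by
        rw [map_one]
        show e (π (C.subtype (D.subtype d))) = 1
        rw [show π (C.subtype (D.subtype d)) = 1 from MonoidHom.mem_ker.mp ((hπker _).mpr hdK),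
          map_one])
      subst hd1
      rw [map_one, mul_one] at hkd'
      rw [mem_bot]
      exact Prod.ext (Subtype.ext hkd') rfl
    have hΦb : Function.Bijective Φ := by
      have := Fintype.ofFinite G
      have := Fintype.ofFinite (K × D)
      refine (Fintype.bijective_iff_injective_and_card Φ).mpr ⟨hΦ, ?_⟩
      rw [← Nat.card_eq_fintype_card, ← Nat.card_eq_fintype_card, Nat.card_prod, hK12,
        Nat.card_congr eD.toEquiv, Golay.card_M11, hcard]
    let Ψ : G ≃* K × ↥Cfsg.Spor.M11 :=
      (MulEquiv.ofBijective Φ hΦb).symm.trans ((MulEquiv.refl K).prodCongr eD)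
    -- a degree of `K` divisible by three
    obtain ⟨χ33, h33⟩ := h33
    obtain ⟨φ, ψ, hφ, hψ, heq⟩ :=
      (S0188.result (fun x : K × ↥Cfsg.Spor.M11 => (χ33 : G → ℂ) (Ψ.symm x))).mp
        (CharCore.isIrrCharacter_comp_surjective χ33.2 Ψ.symm.toMonoidHom Ψ.symm.surjective)
    let φ' : Cfsg.IrrCharacter K := ⟨φ, hφ⟩
    let ψ' : Cfsg.IrrCharacter ↥Cfsg.Spor.M11 := ⟨ψ, hψ⟩
    have hdeg : Cfsg.charDegree (χ33 : G → ℂ) =
        Cfsg.charDegree (φ' : K → ℂ) * Cfsg.charDegree (ψ' : ↥Cfsg.Spor.M11 → ℂ) := by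
      have h1 := congrFun heq 1
      simp only [map_one, Prod.fst_one, Prod.snd_one] at h1
      rw [CharDeep.Deg.apply_one χ33, show φ 1 = _ from CharDeep.Deg.apply_one φ',
        show ψ 1 = _ from CharDeep.Deg.apply_one ψ'] at h1
      exact_mod_cast h1
    have := Fintype.ofFinite ↥Cfsg.Spor.M11
    have hψdeg : Cfsg.charDegree (ψ' : ↥Cfsg.Spor.M11 → ℂ) ∈
        ([1, 10, 45, 16, 11, 44, 55] : List ℕ) := by
      have h1 := Multiset.mem_map_of_mem SmallGroups.SelfCent.Setup.deg (Finset.mem_univ ψ')
      rw [Steiner.M11.degrees hM] at h1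
      have h2 : SmallGroups.SelfCent.Setup.deg ψ' =
          Cfsg.charDegree (ψ' : ↥Cfsg.Spor.M11 → ℂ) :=
        SmallGroups.SelfCent.Setup.deg_eq_charDegree (p := 11) ψ'
      rw [h2] at h1
      simp only [Multiset.insert_eq_cons, Multiset.mem_cons, Multiset.mem_singleton] at h1
      simp only [List.mem_cons, List.not_mem_nil, or_false]
      omega
    have h3 : 3 ∣ Cfsg.charDegree (φ' : K → ℂ) := by
      rw [hdeg] at h33
      have hor : 3 ∣ Cfsg.charDegree (φ' : K → ℂ) ∨ 3 ∣ Cfsg.charDegree (ψ' : ↥Cfsg.Spor.M11 → ℂ) :=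
        (Nat.prime_three.dvd_mul).mp ((show 3 ∣ 33 by norm_num).trans h33)
      refine hor.resolve_right fun h3 => ?_
      have h11 : 11 ∣ Cfsg.charDegree (ψ' : ↥Cfsg.Spor.M11 → ℂ) := by
        refine ((eleven_fact.dvd_mul).mp ((show 11 ∣ 33 by norm_num).trans h33)).resolve_left
          fun h11 => ?_
        have h2 := h11.trans (CharDeep.Deg.degree_dvd_index φ' ⊥
          (fun a ha b hb => by rw [mem_bot.mp ha, mem_bot.mp hb]))
        rw [index_bot, hK12] at h2
        norm_num at h2
      simp only [List.mem_cons, List.not_mem_nil, or_false] at hψdeg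
      omega
    obtain ⟨f⟩ := nonempty_alt_four hK12 φ' h3
    exact ⟨Ψ.trans (f.prodCongr (MulEquiv.refl _))⟩
  · -- the quotient is everything
    left
    have h1 : Nat.card K * T.index = 1 := by have := hK8640 _ h; omega
    have hK1 : K = ⊥ := Subgroup.eq_bot_of_card_eq _ (Nat.eq_one_of_mul_eq_one_right h1)
    have hTtop : T = ⊤ := index_eq_one.mp (Nat.eq_one_of_mul_eq_one_left h1)
    subst hK1
    let e : G ≃* T := (QuotientGroup.quotientBot.symm.trans Subgroup.topEquiv.symm).trans
      (MulEquiv.subgroupCongr hTtop.symm)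
    exact e.isSimpleGroup

end Cfsg.Agent.M12Graph71
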