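import Cfsg.Agent.M12Graph71.Coprime
import Cfsg.Agent.Lib.SmallGroups.SelfCent.TwoDeg
import Cfsg.Agent.Lib.SmallGroups.Basic

/-!
# Local structure at 11 in a simple group with 144 Sylow 11-subgroups
-/

set_option autoImplicit false
set_option linter.unusedSectionVars false

namespace Cfsg.Agent.M12Graph71

open Subgroup Cfsg.Agent.SmallGroups SmallGroups.SelfCent

theorem fact11 : Fact (Nat.Prime 11) := ⟨by norm_num⟩

variable {T : Type*} [Group T] [Fintype T] [Fact (Nat.Prime 11)]

theorem Setup.mem_normalizer_conj (s : Setup T 11) {g : T}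
    (hg : g ∈ normalizer ((zpowers s.z : Subgroup T) : Set T)) :
    ∃ k : ZMod 11, k ≠ 0 ∧ g * s.z * g⁻¹ = s.zp k := by
  obtain ⟨n, hn⟩ := ((isOfFinOrder_of_finite s.z).mem_powers_iff_mem_zpowers).mpr
    ((mem_normalizer_iff.mp hg s.z).mp (mem_zpowers s.z))
  have hn' : g * s.z * g⁻¹ = s.zp (n : ZMod 11) := by rw [s.zp_natCast]; exact hn.symm
  refine ⟨n, fun h0 => ?_, hn'⟩
  rw [h0, s.zp_zero, conj_eq_one_iff] at hn'
  have := s.orderOf_z
  rw [hn', orderOf_one] at this
  norm_num at this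

/-- An element of `N(⟨z⟩)` raised to `|auto|` centralises `z`. -/
theorem Setup.pow_auto_comm (s : Setup T 11) {g : T}
    (hg : g ∈ normalizer ((zpowers s.z : Subgroup T) : Set T)) :
    Commute (g ^ Nat.card s.auto) s.z := by
  obtain ⟨k, hk, hgk⟩ := Setup.mem_normalizer_conj s hg
  have ha : Units.mk0 k hk ∈ s.auto := (s.mem_auto_iff _).mpr (isConj_iff.mpr ⟨g, hgk⟩)
  have hkpow : k ^ Nat.card s.auto = 1 := by
    have h : Units.mk0 k hk ^ Nat.card s.auto = 1 :=
      congrArg Subtype.val (pow_card_eq_one' (x := (⟨_, ha⟩ : s.auto)))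
    have h2 := congrArg Units.val h
    rwa [Units.val_pow_eq_pow_val, Units.val_mk0, Units.val_one] at h2
  have hiter : ∀ j : ℕ, g ^ j * s.z * (g ^ j)⁻¹ = s.zp (k ^ j) := by
    intro j
    induction j with
    | zero => simp [s.zp_one]
    | succ j ih =>
      have h := s.conj_zp_mul (j := 1) (k := k) (g := g) (by rw [s.zp_one]; exact hgk) (k ^ j)
      rw [one_mul, ← ih] at h
      rw [pow_succ' k, ← h, pow_succ']
      group
  have h := hiter (Nat.card s.auto)
  rw [hkpow, s.zp_one] at h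
  exact mul_inv_eq_iff_eq_mul.mp h

/-- An element of `r`-power order in `N(⟨z⟩)`, `r` prime to `|auto|`, centralises `z`. -/
theorem Setup.comm_of_coprime (s : Setup T 11) {g : T} {r j : ℕ} (hr : r.Prime)
    (hre : ¬ r ∣ Nat.card s.auto) (hord : orderOf g = r ^ j)
    (hg : g ∈ normalizer ((zpowers s.z : Subgroup T) : Set T)) : Commute g s.z := by
  have hcop : Nat.Coprime (Nat.card s.auto) (orderOf g) := by
    rw [hord]
    exact Nat.Coprime.pow_right _ ((hr.coprime_iff_not_dvd.mpr hre).symm)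
  obtain ⟨m, hm⟩ := exists_pow_eq_self_of_coprime hcop
  rw [← hm]
  exact (Setup.pow_auto_comm s hg).pow_left m

/-- An involution of `N(⟨z⟩)` not commuting with `z` inverts it. -/
theorem Setup.inverts_of_involution (s : Setup T 11) {u : T} (hu : u * u = 1)
    (hg : u ∈ normalizer ((zpowers s.z : Subgroup T) : Set T)) (hne : ¬ Commute u s.z) :
    u * s.z * u⁻¹ = s.z⁻¹ := by
  obtain ⟨k, hk, huk⟩ := Setup.mem_normalizer_conj s hg
  have h := s.conj_zp_mul (j := 1) (k := k) (g := u) (by rw [s.zp_one]; exact huk) k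
  rw [one_mul, ← huk] at h
  have h2 : s.zp (k * k) = s.zp 1 := by
    rw [s.zp_one, ← h]
    calc u * (u * s.z * u⁻¹) * u⁻¹ = (u * u) * s.z * (u * u)⁻¹ := by group
      _ = s.z := by rw [hu, one_mul, inv_one, mul_one]
  rcases mul_self_eq_one_iff.mp (s.zp_injective h2) with h1 | h1
  · exfalso
    rw [h1, s.zp_one] at huk
    exact hne (mul_inv_eq_iff_eq_mul.mp huk)
  · rw [huk, h1, Setup.zp_neg, s.zp_one]

/-- A nontrivial `r`-subgroup of `K` normalised by `N(⟨z⟩)`, `r ∈ {2, 3}`, has a conjugate element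
in `N(⟨z⟩)` moving `z`, when there are 144 Sylow 11-subgroups. -/
theorem exists_moving [IsSimpleGroup T] (hG : ¬ IsMulCommutative T) (hdvd : Nat.card T ∣ 95040)
    (s : Setup T 11) (P : Sylow 11 T) (hP : (P : Subgroup T) = zpowers s.z)
    (hn : Nat.card (Sylow 11 T) = 144) {r : ℕ} [Fact r.Prime] (hr : r = 2 ∨ r = 3)
    (W : Subgroup T) (hW : W ≠ ⊥) (hWK : W ≤ s.K) (hWr : IsPGroup r W)
    (hWN : normalizer ((zpowers s.z : Subgroup T) : Set T) ≤ normalizer (W : Set T)) :
    ∃ w ∈ W, ∃ g : T, g * w * g⁻¹ ∈ normalizer ((zpowers s.z : Subgroup T) : Set T) ∧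
      ¬ Commute (g * w * g⁻¹) s.z := by
  by_contra hno
  push Not at hno
  set L := normalizer (W : Set T) with hL
  have hWT : W ≠ ⊤ := fun h => by
    have hz : s.z ∈ s.K := hWK (h ▸ mem_top _)
    rw [← s.zp_one, s.zp_mem_K_iff] at hz
    exact one_ne_zero hz
  have hLT : L ≠ ⊤ := fun h => by
    rcases (normalizer_eq_top_iff.mp h).eq_bot_or_eq_top with h' | h'
    · exact hW h'
    · exact hWT h'
  have hPL : (P : Subgroup T) ≤ L := hP ▸ le_normalizer.trans hWN
  have hWL : W ≤ L := le_normalizer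
  have hnorm : ∀ (y : T) (Q : Sylow 11 T), y • Q = Q ↔
      y ∈ normalizer ((Q : Subgroup T) : Set T) := fun y Q => Sylow.smul_eq_iff_mem_normalizer
  -- the fixed Sylow subgroups of `W`
  have hfix : ∀ Q : Sylow 11 T, Q ∈ MulAction.fixedPoints W (Sylow 11 T) ↔
      Q ∈ MulAction.orbit L P := by
    intro Q
    constructor
    · intro hQ
      obtain ⟨g, hg⟩ := MulAction.exists_smul_eq T Q P
      have hQL : (Q : Subgroup T) ≤ L := by
        intro x hx
        refine centralizer_le_normalizer (W : Set T) ?_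
        refine mem_centralizer_iff.mpr fun w hw => Eq.symm ?_
        have hwQ : w ∈ normalizer ((Q : Subgroup T) : Set T) :=
          Sylow.smul_eq_iff_mem_normalizer.mp (hQ ⟨w, hw⟩)
        have hwN : g * w * g⁻¹ ∈ normalizer ((zpowers s.z : Subgroup T) : Set T) := by
          rw [← hP, ← hnorm, ← hg, mul_smul, mul_smul, inv_smul_smul, (hnorm w Q).mpr hwQ]
        have hc := hno w hw g hwN
        have hgx : g * x * g⁻¹ ∈ zpowers s.z := by
          rw [← hP, ← hg]
          exact Subgroup.smul_mem_pointwise_smul x (MulAut.conj g) _ hx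
        obtain ⟨i, hi⟩ := mem_zpowers_iff.mp hgx
        have h1 : Commute (g * w * g⁻¹) (g * x * g⁻¹) := hi ▸ hc.zpow_right i
        calc x * w = g⁻¹ * ((g * x * g⁻¹) * (g * w * g⁻¹)) * g := by group
          _ = g⁻¹ * ((g * w * g⁻¹) * (g * x * g⁻¹)) * g := by rw [h1.eq]
          _ = w * x := by group
      obtain ⟨l, hl⟩ := MulAction.exists_smul_eq L (P.subtype hPL) (Q.subtype hQL)
      refine ⟨l, Sylow.ext ?_⟩
      have h2 := congrArg (fun S : Sylow 11 L => (S : Subgroup L).map L.subtype) hl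
      simp only [Sylow.coe_subtype, map_subgroupOf_eq_of_le hQL] at h2
      rw [← h2]
      ext y
      constructor
      · rintro ⟨x, hx, rfl⟩
        exact ⟨l * ⟨x, hPL hx⟩ * l⁻¹, ⟨⟨x, hPL hx⟩, hx, rfl⟩, rfl⟩
      · rintro ⟨_, ⟨x, hx, rfl⟩, rfl⟩
        exact ⟨x, hx, rfl⟩
    · rintro ⟨⟨l, hl⟩, rfl⟩ ⟨w, hw⟩
      show w • l • P = l • P
      rw [show w • l • P = l • ((l⁻¹ * w * l) • P) by simp [mul_smul]]
      congr 1
      refine (hnorm _ P).mpr ?_
      have hmem : l⁻¹ * w * l ∈ W := by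
        have := (mem_normalizer_iff.mp (inv_mem hl) w).mp hw
        simpa using this
      rw [hP]
      refine centralizer_le_normalizer (zpowers s.z : Set T) ?_
      intro y hy
      obtain ⟨i, rfl⟩ := mem_zpowers_iff.mp hy
      exact ((show Commute s.z _ from (s.comm _ (hWK hmem)).symm).zpow_left i).eq
  have hrel : Nat.card (MulAction.fixedPoints W (Sylow 11 T)) =
      (normalizer ((P : Subgroup T) : Set T)).relIndex L := by
    rw [Nat.card_congr (Equiv.subtypeEquivRight hfix), relIndex]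
    have hst : MulAction.stabilizer L P =
        (normalizer ((P : Subgroup T) : Set T)).subgroupOf L := by
      ext x
      rw [MulAction.mem_stabilizer_iff, mem_subgroupOf]
      exact Sylow.smul_eq_iff_mem_normalizer
    rw [← hst, MulAction.index_stabilizer]
    rfl
  have hmod := hWr.card_modEq_card_fixedPoints (Sylow 11 T)
  rw [hn, hrel] at hmod
  have hidx : (normalizer ((P : Subgroup T) : Set T)).relIndex L * L.index = 144 := by
    rw [relIndex_mul_index (hP ▸ hWN), ← show Nat.card (Sylow 11 T) = (normalizer ((P : Subgroup T) : Set T)).index from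
      P.card_eq_index_normalizer, hn]
  set m := (normalizer ((P : Subgroup T) : Set T)).relIndex L with hm
  have hm11 : m % 11 = 1 := by
    have h := card_sylow_modEq_one 11 L
    rw [show Nat.card (Sylow 11 L) =
        (normalizer ((((P : Subgroup T).subgroupOf L) : Subgroup L) : Set L)).index from
          (P.subtype hPL).card_eq_index_normalizer, ← subgroupOf_normalizer_eq hPL] at h
    exact h
  have hmd : m ∈ (144 : ℕ).divisors :=
    Nat.mem_divisors.mpr ⟨⟨_, hidx.symm⟩, by norm_num⟩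
  have key : ∀ d ∈ (144 : ℕ).divisors, d % 11 = 1 → d = 1 ∨ d = 12 ∨ d = 144 := by decide
  have hL12 : L.index = 12 := by
    rcases key m hmd hm11 with h | h | h
    · exfalso
      rw [h] at hmod
      rcases hr with rfl | rfl <;> simp [Nat.ModEq] at hmod
    · rw [h] at hidx; omega
    · exfalso
      rw [h] at hidx
      exact hLT (index_eq_one.mp (by omega))
  obtain ⟨w, hw, hw1⟩ := (W.bot_or_exists_ne_one).resolve_left hW
  have : FaithfulSMul T (T ⧸ L) := ⟨fun h => toPerm_injective hLT (Equiv.ext h)⟩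
  have hfixc : ∀ {y : T}, y ∈ L → y • ((1 : T) : T ⧸ L) = ((1 : T) : T ⧸ L) := fun {y} hy => by
    rw [MulAction.Quotient.smul_coe, smul_eq_mul, mul_one, QuotientGroup.eq]
    simpa using inv_mem hy
  have hmem := mem_zpowers_of_twelve (α := T ⧸ L) (by rw [← index_eq_card, hL12]) s.orderOf_z _
    (hfixc (hPL (hP ▸ mem_zpowers s.z))) (hfixc (hWL hw)) (s.comm w (hWK hw)).symm
  obtain ⟨i, hi⟩ := ((isOfFinOrder_of_finite s.z).mem_powers_iff_mem_zpowers).mpr hmem
  refine hw1 ?_
  simp only at hi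
  rw [← hi, ← s.zp_natCast]
  have h2 : s.zp (i : ZMod 11) ∈ s.K := by rw [s.zp_natCast]; exact hi ▸ hWK hw
  rw [(s.zp_mem_K_iff _).mp h2, s.zp_zero]

end Cfsg.Agent.M12Graph71
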