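import Cfsg.Prelude.Def_DegreeGraph
import Cfsg.Agent.M12Graph71.Group
import Cfsg.Agent.M12Graph71.Degrees

/-!
# Groups with the order and the degree graph of `M₁₂`
-/

set_option autoImplicit false

namespace Cfsg.Agent.M12Graph71

universe u

/-- An edge of the degree graph gives a character of degree divisible by the product. -/
theorem exists_dvd_of_adj {G : Type u} [Group G] [Finite G] {p q : ℕ}
    (h : (Cfsg.degreeGraph G).Adj p q) :
    ∃ χ : Cfsg.IrrCharacter G, p * q ∣ Cfsg.charDegree (χ : G → ℂ) := by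
  obtain ⟨-, -, -, d, ⟨χ, rfl⟩, hd⟩ := h
  exact ⟨χ, hd⟩

theorem adj_of_dvd {G : Type u} [Group G] [Finite G] {p q : ℕ} (hp : p.Prime) (hq : q.Prime)
    (hpq : p ≠ q) (χ : Cfsg.IrrCharacter G) (h : p * q ∣ Cfsg.charDegree (χ : G → ℂ)) :
    (Cfsg.degreeGraph G).Adj p q :=
  ⟨hpq, hp, hq, _, ⟨χ, rfl⟩, h⟩

/-- The statement, given that a simple group of order 95040 is `M₁₂`. -/
theorem main {G : Type u} [Group G] [Finite G]
    (hM : Cfsg.IsM12 G → Cfsg.Spor.IsoM12 G)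
    (hcard : Nat.card G = Nat.card ↥Cfsg.Spor.M12)
    (hΔ : Cfsg.degreePrimes G = Cfsg.degreePrimes ↥Cfsg.Spor.M12 ∧
      Cfsg.degreeGraph G = Cfsg.degreeGraph ↥Cfsg.Spor.M12) :
    Nonempty (G ≃* ↥Cfsg.Spor.M12) ∨
      Nonempty (G ≃* alternatingGroup (Fin 4) × ↥Cfsg.Spor.M11) := by
  rw [Golay.card_M12] at hcard
  obtain ⟨⟨χ, hχ⟩, ψ, hψ⟩ := exists_dvd_charDegree_M12
  have h55 : (Cfsg.degreeGraph G).Adj 5 11 := hΔ.2 ▸
    adj_of_dvd (by norm_num) (by norm_num) (by norm_num) χ hχ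
  have h33 : (Cfsg.degreeGraph G).Adj 3 11 := hΔ.2 ▸
    adj_of_dvd (by norm_num) (by norm_num) (by norm_num) ψ hψ
  rcases structure_cases hcard (exists_dvd_of_adj h55) (exists_dvd_of_adj h33) with h | h
  · exact Or.inl (hM ⟨h, hcard⟩)
  · exact Or.inr h

end Cfsg.Agent.M12Graph71
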