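import Cfsg.Agent.M12Uniq.CharsBlockNum

/-!
# The degrees of `M₁₂` divisible by 3 and by 5 outside the principal 11-block

A variant of the bounded search that also carries the sum of `80 v² a / k` over the items
`(k, a, v)`, the part of a class multiplication coefficient coming from these characters.
-/

set_option autoImplicit false

namespace Cfsg.Agent.M12Graph71

open Cfsg.Agent.M12Uniq (Item maxCopies isum items)

/-- The contribution of an item to the class multiplication coefficient. -/
def weight (t : Item) : ℤ := ((80 / t.1 : ℕ) : ℤ) * (t.2.2 * t.2.2) * t.2.1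

/-- Is there a multiset of items with the given sums, at least eight members and admissible
total weight? -/
def srch (ok : ℤ → Bool) : List Item → ℕ → ℕ → ℕ → ℤ → ℤ → ℕ → ℤ → Bool
  | [], R, Sq, Sx, Lq, Lx, n, T =>
      (R == 0) && (Sq == 0) && (Sx == 0) && (Lq == 0) && (Lx == 0) && (8 ≤ n : Bool) && ok T
  | t :: ts, R, Sq, Sx, Lq, Lx, n, T =>
      (List.range (maxCopies t R Sq Sx + 1)).any fun j =>
        srch ok ts (R - j * (t.1 * t.1)) (Sq - j * (t.2.1.natAbs * t.2.1.natAbs))
          (Sx - j * (t.2.2.natAbs * t.2.2.natAbs)) (Lq - j * ((t.1 : ℤ) * t.2.1))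
          (Lx - j * ((t.1 : ℤ) * t.2.2)) (n + j) (T + j * weight t)

theorem srch_complete (ok : ℤ → Bool) (ts : List Item) (hpos : ∀ t ∈ ts, 0 < t.1)
    (M : Multiset Item) (hM : ∀ t ∈ M, t ∈ ts) (n : ℕ) (hn : 8 ≤ n + M.card) (T : ℤ)
    (hT : ok (T + isum weight M) = true) :
    srch ok ts (isum (fun t => t.1 * t.1) M) (isum (fun t => t.2.1.natAbs * t.2.1.natAbs) M)
      (isum (fun t => t.2.2.natAbs * t.2.2.natAbs) M) (isum (fun t => (t.1 : ℤ) * t.2.1) M)
      (isum (fun t => (t.1 : ℤ) * t.2.2) M) n T = true := by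
  induction ts generalizing M n T with
  | nil =>
    obtain rfl : M = 0 := Multiset.eq_zero_of_forall_notMem fun t ht => by simpa using hM t ht
    simp only [Multiset.card_zero, add_zero] at hn
    simp [isum] at hT
    simp [srch, isum, hn, hT]
  | cons t ts ih =>
    set j := M.count t
    set M' := M.filter fun u => u ≠ t
    have hsplit : M = Multiset.replicate j t + M' := by
      conv_lhs => rw [← Multiset.filter_add_not (fun u => u = t) M]
      rw [Multiset.filter_eq']
    have hsum : ∀ {α : Type} [AddCommMonoid α] (f : Item → α),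
        isum f M = j • f t + isum f M' := fun f => by
      rw [isum, hsplit, Multiset.map_add, Multiset.sum_add, Multiset.map_replicate,
        Multiset.sum_replicate]
      rfl
    have hcard : M.card = j + M'.card := by
      rw [hsplit, Multiset.card_add, Multiset.card_replicate]
    have e1 := hsum fun u => u.1 * u.1
    have e2 := hsum fun u => u.2.1.natAbs * u.2.1.natAbs
    have e3 := hsum fun u => u.2.2.natAbs * u.2.2.natAbs
    have e4 := hsum fun u => (u.1 : ℤ) * u.2.1
    have e5 := hsum fun u => (u.1 : ℤ) * u.2.2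
    have e6 := hsum weight
    simp only [smul_eq_mul, nsmul_eq_mul] at e1 e2 e3 e4 e5 e6
    have hrec := ih (fun u hu => hpos u (List.mem_cons_of_mem t hu)) M'
      (fun u hu => by
        obtain ⟨h1, h2⟩ := Multiset.mem_filter.mp hu
        exact (List.mem_cons.mp (hM u h1)).resolve_left h2)
      (n + j) (by omega) (T + (j : ℤ) * weight t) (by rw [add_assoc, ← e6]; exact hT)
    rw [srch, List.any_eq_true]
    refine ⟨j, List.mem_range.mpr (Nat.lt_succ_of_le ?_), ?_⟩
    · have ht : 0 < t.1 * t.1 := Nat.mul_pos (hpos t List.mem_cons_self) (hpos t List.mem_cons_self)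
      have b1 : j ≤ isum (fun u => u.1 * u.1) M / (t.1 * t.1) :=
        (Nat.le_div_iff_mul_le ht).mpr (e1 ▸ Nat.le_add_right _ _)
      have b2 : t.2.1 ≠ 0 → j ≤ isum (fun u => u.2.1.natAbs * u.2.1.natAbs) M /
          (t.2.1.natAbs * t.2.1.natAbs) := fun h =>
        (Nat.le_div_iff_mul_le (Nat.mul_pos (Int.natAbs_pos.mpr h) (Int.natAbs_pos.mpr h))).mpr
          (e2 ▸ Nat.le_add_right _ _)
      have b3 : t.2.2 ≠ 0 → j ≤ isum (fun u => u.2.2.natAbs * u.2.2.natAbs) M /
          (t.2.2.natAbs * t.2.2.natAbs) := fun h =>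
        (Nat.le_div_iff_mul_le (Nat.mul_pos (Int.natAbs_pos.mpr h) (Int.natAbs_pos.mpr h))).mpr
          (e3 ▸ Nat.le_add_right _ _)
      unfold maxCopies
      simp only
      split_ifs with h1 h2 h2
      · exact b1
      · exact le_min b1 (b2 h2)
      · exact le_min b1 (b3 h1)
      · exact le_min (le_min b1 (b2 h2)) (b3 h1)
    · rw [e1, e2, e3, e4, e5, Nat.add_sub_cancel_left, Nat.add_sub_cancel_left,
        Nat.add_sub_cancel_left, add_sub_cancel_left, add_sub_cancel_left, hrec]

/-- All items, including those of degree 11. -/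
def allItems : List Item := ((1, 1, 2) : Item) :: items

private theorem items_one : ∀ a ∈ Cfsg.Agent.M12Uniq.qVals 11, ∀ v ∈ Cfsg.Agent.M12Uniq.xVals 11,
    ((1, a, v) : Item) ∈ allItems := by
  decide +kernel

theorem mem_allItems {k : ℕ} {a v : ℤ} (hk : 1 ≤ k) (hk' : k ≤ 28) (hdvd : k ∣ 8640)
    (ha : a ∈ Cfsg.Agent.M12Uniq.qVals (11 * k)) (hv : v ∈ Cfsg.Agent.M12Uniq.xVals (11 * k)) :
    ((k, a, v) : Item) ∈ allItems := by
  rcases eq_or_lt_of_le hk with rfl | hk2
  · exact items_one a ha v hv
  · exact List.mem_cons_of_mem _ (Cfsg.Agent.M12Uniq.mem_items hk2 hk' hdvd ha hv)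

/-- The items of degree prime to 5. -/
def itemsNoFive : List Item := allItems.filter fun t => !(5 ∣ t.1 : Bool)

/-- The items of degree prime to 3 and at most 20. -/
def itemsNoThree : List Item := allItems.filter fun t => !(3 ∣ t.1 : Bool) && (t.1 ≤ 21 : Bool)

/-- Integrality of the class multiplication coefficient. -/
def okT (T : ℤ) : Bool := (T + 1320) % 27 == 0

theorem pos_noFive : ∀ t ∈ itemsNoFive, 0 < t.1 := by decide +kernel

theorem pos_noThree : ∀ t ∈ itemsNoThree, 0 < t.1 ∧ t.1 ∣ 80 := by decide +kernel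

theorem srch_noFive : srch (fun _ => true) itemsNoFive 450 5 36 15 (-27) 0 0 = false := by
  decide +kernel

theorem srch_noThree : srch okT itemsNoThree 450 5 36 15 (-27) 0 0 = false := by
  decide +kernel

end Cfsg.Agent.M12Graph71
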