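import Cfsg.Agent.M12Graph71.Block
import Cfsg.Agent.M12Graph71.Local

/-!
# Ten automorphisms induced on a Sylow 11-subgroup: impossible
-/

set_option autoImplicit false
set_option linter.unusedSectionVars false

open scoped ComplexConjugate

namespace Cfsg.Agent.M12Graph71

open Subgroup Cfsg.Agent.SmallGroups SmallGroups.SelfCent

theorem degree_list : ∀ d ∈ List.range 309, d ∣ 95040 → d % 11 = 1 ∨ d % 11 = 10 →
    d ∈ [1, 10, 12, 32, 45, 54, 120, 144] := by
  decide +kernel

variable {T : Type*} [Group T] [Fintype T] [IsSimpleGroup T] [Fact (Nat.Prime 11)]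

theorem sum_deg_sq : ∑ θ : Cfsg.IrrCharacter T, (Setup.deg θ : ℤ) ^ 2 = (Nat.card T : ℤ) := by
  classical
  have h := CharCore.sum_degree_mul_apply (1 : T)
  rw [if_pos rfl] at h
  apply Int.cast_injective (α := ℂ)
  push_cast
  rw [← h]
  exact Finset.sum_congr rfl fun θ _ => by rw [(Setup.deg_spec θ).2.2, sq]

/-- The degree of a member: one of seven numbers. -/
theorem deg_mem (hG : ¬ IsMulCommutative T) (hdvd : Nat.card T ∣ 95040)
    {χ : Cfsg.IrrCharacter T} (hχ : χ ≠ Setup.triv) {z : T} (hz : orderOf z = 11) {δ : ℤ}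
    (hδ : δ = 1 ∨ δ = -1) (hv : ∀ k : ℕ, 0 < k → k < 11 → (χ : T → ℂ) (z ^ k) = δ) :
    ∃ f : ℕ, Val χ z (Setup.deg χ) δ f ∧
      Setup.deg χ ∈ [10, 12, 32, 45, 54, 120, 144] ∧ (Setup.deg χ : ℤ) + 10 * δ = 11 * f := by
  obtain ⟨f, hf⟩ := exists_val χ hz hv
  have he := hf.eq
  have hsq : (Setup.deg χ : ℤ) ^ 2 ≤ 95040 := by
    have h1 : (Nat.card T : ℤ) ≤ 95040 := by exact_mod_cast Nat.le_of_dvd (by norm_num) hdvd
    exact le_trans (le_of_le_of_eq (Finset.single_le_sum
      (f := fun θ : Cfsg.IrrCharacter T => (Setup.deg θ : ℤ) ^ 2)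
      (fun θ _ => sq_nonneg _) (Finset.mem_univ χ)) sum_deg_sq) h1
  have hlt : Setup.deg χ < 309 := by
    have : (Setup.deg χ : ℤ) < 309 := by nlinarith
    exact_mod_cast this
  obtain ⟨-, hd, -⟩ := Setup.deg_spec χ
  have hmem := degree_list _ (List.mem_range.mpr hlt) (hd.trans hdvd)
    (by rcases hδ with rfl | rfl <;> omega)
  refine ⟨f, hf, ?_, he⟩
  rw [List.mem_cons] at hmem
  exact hmem.resolve_left fun h => hχ ((deg_eq_one_iff hG χ).mp h)

/-- No `K` of order two. -/
theorem false_of_two (hG : ¬ IsMulCommutative T) (hdvd : Nat.card T ∣ 95040) (s : Setup T 11)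
    (P : Sylow 11 T) (hP : (P : Subgroup T) = zpowers s.z) (he : Nat.card s.auto = 10)
    (hn : Nat.card (Sylow 11 T) = 144) (hK : Nat.card s.K = 2) : False := by
  classical
  have : Fact (Nat.Prime 2) := ⟨Nat.prime_two⟩
  have hidx : ¬ 11 ∣ (zpowers s.z).index := hP ▸ P.not_dvd_index
  have hKne : s.K ≠ ⊥ := fun h => by rw [h, card_bot] at hK; norm_num at hK
  have hN : normalizer ((zpowers s.z : Subgroup T) : Set T) ≤ normalizer (s.K : Set T) := by
    intro g hg
    obtain ⟨k, hk, hgk⟩ := Setup.mem_normalizer_conj s hg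
    have hg' : g * s.zp 1 * g⁻¹ = s.zp k := by rw [s.zp_one]; exact hgk
    have hle : s.K.map (MulAut.conj g).toMonoidHom ≤ s.K := by
      rintro _ ⟨w, hw, rfl⟩
      exact s.conj_mem_K one_ne_zero hg' hw
    have heq := eq_of_le_of_card_ge hle
      (le_of_eq (Nat.card_congr (s.K.equivMapOfInjective _ (MulAut.conj g).injective).toEquiv))
    rw [mem_normalizer_iff]
    intro w
    refine ⟨fun hw => s.conj_mem_K one_ne_zero hg' hw, fun hw => ?_⟩
    rw [← heq] at hw
    obtain ⟨w', hw', he'⟩ := hw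
    rwa [(MulAut.conj g).injective he'] at hw'
  obtain ⟨w, hw, g, hgN, hgc⟩ := exists_moving hG hdvd s P hP hn (Or.inl rfl) s.K hKne le_rfl
    (IsPGroup.of_card (n := 1) (by rw [hK, pow_one])) hN
  have hw2 : w ^ 2 = 1 := by rw [← hK]; exact s.pow_card_K hw
  have hu2 : (g * w * g⁻¹) ^ 2 = 1 := by rw [conj_pow, hw2, mul_one, mul_inv_cancel]
  have hinv := Setup.inverts_of_involution s (by rw [← sq]; exact hu2) hgN hgc
  obtain ⟨B, δ, htB, hδt, hB, hmem, hsum, -⟩ := exists_block_ten s hidx he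
  have h3 : ∀ χ ∈ B.erase Setup.triv, (3 : ℤ) ∣ δ χ * (Setup.deg χ : ℤ) := by
    intro χ hχ
    obtain ⟨hχ1, hχB⟩ := Finset.mem_erase.mp hχ
    obtain ⟨hδ, hval⟩ := hmem χ hχB
    obtain ⟨f, hf, hdm, heq⟩ := deg_mem hG hdvd hχ1 s.orderOf_z hδ fun k hk hk' => by
      simpa using hval 1 (one_mem _) k hk hk'
    obtain ⟨t, ht, ht1, ht2, ht3⟩ := hf.inv _ hu2 hinv
    obtain ⟨a, ha, ha1, ha2, ha3⟩ := hf.comm w hw2 (s.comm w hw) (hval w hw)
    obtain ⟨nn, hnn, -, -, h4⟩ := exists_int_value_four hG χ hw2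
    have hcl : (χ : T → ℂ) (g * w * g⁻¹) = (χ : T → ℂ) w := CharCore.irr_isClassFunction χ w g
    rw [ht, ha] at hcl
    have hta : t = 11 * a - 10 * δ χ := by exact_mod_cast hcl
    have hna : nn = 11 * a - 10 * δ χ := by
      rw [hnn] at ha
      exact_mod_cast ha
    refine Dvd.dvd.mul_left ?_ _
    simp only [List.mem_cons, List.not_mem_nil, or_false] at hdm
    rcases hdm with h | h | h | h | h | h | h <;> rw [h] at heq h4 ⊢ <;>
      rcases hδ with e | e <;> rw [e] at heq hta hna <;> push_cast at heq h4 ⊢ <;> omega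
  rw [← Finset.add_sum_erase _ _ htB, hδt, Setup.deg_triv] at hsum
  have := Finset.dvd_sum h3
  push_cast at hsum
  omega

/-- No trivial `K`. -/
theorem false_of_bot (hG : ¬ IsMulCommutative T) (hdvd : Nat.card T ∣ 95040) (s : Setup T 11)
    (hidx : ¬ 11 ∣ (zpowers s.z).index) (he : Nat.card s.auto = 10) (hK : s.K = ⊥)
    (hn : Nat.card T = 1320 ∨ Nat.card T = 15840) : False := by
  classical
  obtain ⟨B, δ, htB, hδt, hB, hmem, hsum, hout⟩ := exists_block_ten s hidx he
  -- an involution inverting `z`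
  obtain ⟨u, hu2, huz⟩ : ∃ u : T, u ^ 2 = 1 ∧ ∀ k : ZMod 11, u * s.zp k * u⁻¹ = s.zp (-k) := by
    have htop : s.auto = ⊤ := eq_top_of_card_eq _ (by
      rw [he, Nat.card_eq_fintype_card, ZMod.card_units])
    obtain ⟨c, hc⟩ := isConj_iff.mp
      ((s.mem_auto_iff (-1)).mp (htop ▸ mem_top (-1 : (ZMod 11)ˣ)))
    have hconj : ∀ k : ZMod 11, c * s.zp k * c⁻¹ = s.zp (-k) := fun k => by
      have h := s.conj_zp_mul (j := 1) (k := -1) (g := c)
        (by rw [s.zp_one]; simpa using hc) k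
      simpa using h
    refine ⟨c ^ 11, ?_, fun k => ?_⟩
    · have hc2 : c ^ 2 ∈ centralizer ({s.z} : Set T) := by
        rw [mem_centralizer_singleton_iff]
        have h1 := hconj 1
        rw [s.zp_one] at h1
        have h2 := hconj (-1)
        rw [neg_neg, s.zp_one, ← h1] at h2
        calc c ^ 2 * s.z = c * (c * s.z * c⁻¹) * c⁻¹ * c ^ 2 := by simp [sq, mul_assoc]
          _ = s.z * c ^ 2 := by rw [h2]
      obtain ⟨a, w, hw, haw⟩ := s.exists_of_mem_cent hc2
      rw [hK, mem_bot] at hw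
      rw [hw, mul_one] at haw
      rw [← pow_mul, show 11 * 2 = 2 * 11 from rfl, pow_mul, haw, s.zp_pow,
        show ((11 : ℕ) : ZMod 11) = 0 from ZMod.natCast_self 11, mul_zero, s.zp_zero]
    · have hstep : ∀ (j : ℕ) (k : ZMod 11), c ^ j * s.zp k * (c ^ j)⁻¹ =
          s.zp ((-1) ^ j * k) := by
        intro j
        induction j with
        | zero => intro k; simp
        | succ j ih =>
          intro k
          rw [pow_succ', pow_succ', mul_assoc (-1 : ZMod 11), neg_one_mul, ← hconj, ← ih k]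
          group
      rw [hstep, show ((-1 : ZMod 11) ^ 11) = -1 from Odd.neg_one_pow (by decide), neg_one_mul]
  have hinv : u * s.z * u⁻¹ = s.z⁻¹ := by
    have h := huz 1
    rwa [Setup.zp_neg, s.zp_one] at h
  choose sv hsv using fun χ : Cfsg.IrrCharacter T => exists_int_of_sq_eq_one χ hu2
  have hinfo : ∀ χ ∈ B.erase Setup.triv,
      (Setup.deg χ = 12 ∧ δ χ = 1 ∧ sv χ = 0) ∨ (Setup.deg χ = 32 ∧ δ χ = -1 ∧ sv χ = 0) ∨
        (Setup.deg χ = 45 ∧ δ χ = 1 ∧ (sv χ = 1 ∨ sv χ = 5 ∨ sv χ = -3)) ∨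
        (Setup.deg χ = 120 ∧ δ χ = -1) := by
    intro χ hχ
    obtain ⟨hχ1, hχB⟩ := Finset.mem_erase.mp hχ
    obtain ⟨hδ, hval⟩ := hmem χ hχB
    obtain ⟨f, hf, hdm, heq⟩ := deg_mem hG hdvd hχ1 s.orderOf_z hδ fun k hk hk' => by
      simpa using hval 1 (one_mem _) k hk hk'
    obtain ⟨t, ht, ht1, ht2, ht3⟩ := hf.inv _ hu2 hinv
    obtain ⟨nn, hnn, -, -, h4⟩ := exists_int_value_four hG χ hu2
    have e1 : sv χ = t := by rw [hsv] at ht; exact_mod_cast ht
    have e2 : sv χ = nn := by rw [hsv] at hnn; exact_mod_cast hnn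
    have hdT := (Setup.deg_spec χ).2.1
    have hsq : (Setup.deg χ : ℤ) ^ 2 ≤ (Nat.card T : ℤ) :=
      (Finset.single_le_sum (f := fun θ : Cfsg.IrrCharacter T => (Setup.deg θ : ℤ) ^ 2)
        (fun θ _ => sq_nonneg _) (Finset.mem_univ χ)).trans_eq sum_deg_sq
    simp only [List.mem_cons, List.not_mem_nil, or_false] at hdm
    rcases hdm with h | h | h | h | h | h | h <;> rw [h] at heq h4 hdT hsq <;>
      rcases hδ with e | e <;> rw [e] at heq ⊢ <;> rcases hn with h' | h' <;>
      rw [h'] at hdT hsq <;> push_cast at heq h4 hsq <;> omega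
  set a := ((B.erase Setup.triv).filter fun χ => Setup.deg χ = 12).card with ha
  set b := ((B.erase Setup.triv).filter fun χ => Setup.deg χ = 32).card with hb
  set C := (B.erase Setup.triv).filter fun χ => Setup.deg χ = 45 with hC
  set g := ((B.erase Setup.triv).filter fun χ => Setup.deg χ = 120).card with hg
  have hsplit : ∀ F : ℕ → ℤ, ∑ χ ∈ B.erase Setup.triv, F (Setup.deg χ) =
      a * F 12 + b * F 32 + C.card * F 45 + g * F 120 := by
    intro F
    rw [← Finset.sum_fiberwise_of_maps_to (t := ({12, 32, 45, 120} : Finset ℕ))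
      (g := fun χ => Setup.deg χ)]
    · rw [Finset.sum_insert (by simp), Finset.sum_insert (by simp), Finset.sum_pair (by simp)]
      have hh : ∀ d : ℕ, ∑ χ ∈ (B.erase Setup.triv).filter (fun χ => Setup.deg χ = d),
          F (Setup.deg χ) = ((B.erase Setup.triv).filter fun χ => Setup.deg χ = d).card * F d := by
        intro d
        rw [Finset.sum_congr rfl fun χ hχ => by rw [(Finset.mem_filter.mp hχ).2],
          Finset.sum_const, nsmul_eq_mul]
      rw [hh, hh, hh, hh, ha, hb, hC, hg]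
      ring
    · intro χ hχ
      rcases hinfo χ hχ with h | h | h | h <;> simp [h.1]
  have e1 : (a : ℤ) + b + C.card + g = 10 := by
    have h := hsplit fun _ => 1
    rw [Finset.sum_const, Finset.card_erase_of_mem htB, hB] at h
    simpa using h.symm
  have e2 : 1 + (12 * (a : ℤ) - 32 * b + 45 * C.card - 120 * g) = 0 := by
    rw [← Finset.add_sum_erase _ _ htB, hδt, Setup.deg_triv] at hsum
    have hs : ∑ χ ∈ B.erase Setup.triv,
        (if Setup.deg χ = 32 ∨ Setup.deg χ = 120 then -(Setup.deg χ : ℤ) else Setup.deg χ) = _ :=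
      hsplit fun d => if d = 32 ∨ d = 120 then -(d : ℤ) else d
    rw [Finset.sum_congr rfl (g := fun χ =>
        if Setup.deg χ = 32 ∨ Setup.deg χ = 120 then -(Setup.deg χ : ℤ) else Setup.deg χ)
      fun χ hχ => by rcases hinfo χ hχ with h | h | h | h <;> simp [h.1, h.2], hs] at hsum
    norm_num at hsum
    linarith
  obtain ⟨q, hq⟩ : ∃ q : ℕ, (Nat.card T : ℤ) =
      1 + (144 * (a : ℤ) + 1024 * b + 2025 * C.card + 14400 * g) + 121 * q := by
    have hdiv : ∀ χ : Cfsg.IrrCharacter T, χ ∉ B → ∃ f : ℕ, Setup.deg χ = 11 * f := by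
      intro χ hχ
      obtain ⟨f, hf⟩ := exists_val χ s.orderOf_z (v := 0)
        fun k hk hk' => by simpa using hout hK χ hχ k hk hk'
      have := hf.eq
      exact ⟨f, by omega⟩
    choose ff hff using hdiv
    refine ⟨∑ χ ∈ (Finset.univ \ B).attach, (ff χ.1 (Finset.mem_sdiff.mp χ.2).2) ^ 2, ?_⟩
    rw [← sum_deg_sq, ← Finset.sum_sdiff (Finset.subset_univ B),
      ← Finset.add_sum_erase B _ htB, Setup.deg_triv, hsplit (fun d => (d : ℤ) ^ 2),
      ← Finset.sum_attach (Finset.univ \ B)]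
    push_cast
    rw [Finset.mul_sum, Finset.sum_congr rfl fun χ _ => by
      rw [hff χ.1 (Finset.mem_sdiff.mp χ.2).2]]
    push_cast
    simp only [mul_pow]
    norm_num
    ring
  obtain ⟨ha2, hb5, hC3, hg0, hn'⟩ : a = 2 ∧ b = 5 ∧ C.card = 3 ∧ g = 0 ∧
      Nat.card T = 15840 := by
    rcases hn with h | h <;> rw [h] at hq <;> push_cast at hq <;> omega
  -- orthogonality with `z`
  have horth : ∑ χ ∈ B, δ χ * sv χ = 0 := by
    have hnc : ¬ IsConj u s.z := by
      intro h
      obtain ⟨c, hc⟩ := isConj_iff.mp h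
      have h2 : s.z ^ 2 = 1 := by rw [← hc, conj_pow, hu2, mul_one, mul_inv_cancel]
      have := orderOf_dvd_of_pow_eq_one h2
      rw [s.orderOf_z] at this
      norm_num at this
    have h := CharCore.sum_apply_mul_conj u s.z
    rw [if_neg hnc, ← Finset.sum_subset (Finset.subset_univ B) fun χ _ hχ => by
      rw [show (χ : T → ℂ) s.z = 0 by simpa using hout hK χ hχ 1 one_pos (by norm_num),
        map_zero, mul_zero]] at h
    apply Int.cast_injective (α := ℂ)
    push_cast
    rw [← h]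
    refine Finset.sum_congr rfl fun χ hχ => ?_
    rw [hsv, show (χ : T → ℂ) s.z = (δ χ : ℂ) by
      simpa using (hmem χ hχ).2 1 (one_mem _) 1 one_pos (by norm_num), map_intCast, mul_comm]
  have hsvt : sv Setup.triv = 1 := by
    have h := hsv Setup.triv
    simp [Setup.triv] at h
    exact_mod_cast h.symm
  have hrest : ∀ χ ∈ B.erase Setup.triv, χ ∉ C → sv χ = 0 := by
    intro χ hχ hχC
    rcases hinfo χ hχ with h | h | h | h
    · exact h.2.2
    · exact h.2.2
    · exact absurd (Finset.mem_filter.mpr ⟨hχ, h.1⟩) hχC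
    · exfalso
      have hne : χ ∈ (B.erase Setup.triv).filter fun χ => Setup.deg χ = 120 :=
        Finset.mem_filter.mpr ⟨hχ, h.1⟩
      have := Finset.card_pos.mpr ⟨χ, hne⟩
      omega
  have hCsub : C ⊆ B.erase Setup.triv := Finset.filter_subset _ _
  have hCδ : ∀ χ ∈ C, δ χ = 1 ∧ (Setup.deg χ = 45) ∧ (sv χ = 1 ∨ sv χ = 5 ∨ sv χ = -3) := by
    intro χ hχ
    have hd := (Finset.mem_filter.mp hχ).2
    rcases hinfo χ (hCsub hχ) with h | h | h | h <;> first
      | exact ⟨h.2.1, h.1, h.2.2⟩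
      | (exfalso; omega)
  have hS1 : ∑ χ ∈ C, sv χ = -1 := by
    rw [← Finset.add_sum_erase _ _ htB, hδt, hsvt, ← Finset.sum_subset hCsub fun χ hχ hχC => by
      rw [hrest χ hχ hχC, mul_zero],
      Finset.sum_congr rfl fun χ hχ => by rw [(hCδ χ hχ).1, one_mul]] at horth
    norm_num at horth
    linarith
  -- the number of pairs of conjugates of `u` with product `z`
  have hpairs := card_pairs_mul_card u s.z
  rw [s.card_pairs hK (by norm_num) hu2 huz,
    ← Finset.sum_subset (Finset.subset_univ B) fun χ _ hχ => by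
      rw [show (χ : T → ℂ) s.z = 0 by simpa using hout hK χ hχ 1 one_pos (by norm_num),
        map_zero, mul_zero],
    ← Finset.add_sum_erase _ _ htB, ← Finset.sum_subset hCsub fun χ hχ hχC => by
      rw [hsv, hrest χ hχ hχC]; simp,
    Finset.sum_congr rfl (g := fun χ => ((sv χ : ℂ)) ^ 2 / 45) fun χ hχ => by
      rw [hsv, (Setup.deg_spec χ).2.2, (hCδ χ hχ).2.1, show (χ : T → ℂ) s.z = (δ χ : ℂ) by
        simpa using (hmem χ (Finset.mem_of_mem_erase (hCsub hχ))).2 1 (one_mem _) 1 one_pos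
          (by norm_num), (hCδ χ hχ).1]
      simp,
    ← Finset.sum_div, hn'] at hpairs
  set I := (centralizer ({u} : Set T)).index
  have heqI : (45 * 11 * 15840 : ℤ) = (I : ℤ) ^ 2 * (45 + ∑ χ ∈ C, sv χ ^ 2) := by
    apply Int.cast_injective (α := ℂ)
    push_cast
    simp [Setup.triv] at hpairs
    linear_combination 45 * hpairs
  obtain ⟨x, y, w, hxy, hxw, hyw, hCeq⟩ := Finset.card_eq_three.mp hC3
  rw [hCeq, Finset.sum_insert (by simp [hxy, hxw]), Finset.sum_pair hyw] at hS1 heqI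
  have hx := (hCδ x (by rw [hCeq]; simp)).2.2
  have hy := (hCδ y (by rw [hCeq]; simp)).2.2
  have hw := (hCδ w (by rw [hCeq]; simp)).2.2
  rcases hx with hx | hx | hx <;> rcases hy with hy | hy | hy <;> rcases hw with hw | hw | hw <;>
    rw [hx, hy, hw] at hS1 heqI <;> (try norm_num at hS1 heqI) <;>
    (generalize hI : (I : ℤ) = J at heqI
     first
      | omega
      | (have hJ0 : 0 ≤ J := by rw [← hI]; positivity
         have h1 : 298 < J := by nlinarith
         have h2 : J < 299 := by nlinarith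
         omega))

end Cfsg.Agent.M12Graph71
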